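import Cfsg.Agent.Lib.Lie.FPFTop.Exponent

/-!
# Consequences for abelian groups without fixed points
-/

set_option autoImplicit false
set_option linter.unusedSectionVars false

namespace Cfsg.Agent.Lie.FPFTop

open scoped TensorProduct

universe u v

variable {F : Type*} [Field F] [Fintype F] [DecidableEq F] [CharP F 2] {G : Type u} [Group G] [Finite G]
variable {R : RankOne F G} {ι : Type*} [Fintype ι] [DecidableEq ι] {n : ℕ}

section Bil

variable {A : Type v} [AddCommGroup A] [Module (ZMod 2) A] [Finite A]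

theorem bij_sub_one {α : G →* Module.End (ZMod 2) A} (hα : FPF α) {g : G} (hg : Odd (orderOf g)) (hg1 : g ≠ 1) :
    Function.Bijective (α g - 1 : Module.End (ZMod 2) A) := by
  have hinj : Function.Injective (α g - 1 : Module.End (ZMod 2) A) := by
    refine (injective_iff_map_eq_zero _).2 fun a ha => hα g hg hg1 a ?_
    rw [LinearMap.sub_apply, Module.End.one_apply, sub_eq_zero] at ha
    exact ha
  exact ⟨hinj, Finite.injective_iff_surjective.1 hinj⟩

variable (F)

/-- Extension of scalars of an action. -/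
noncomputable def bcRep [Algebra (ZMod 2) F] (α : G →* Module.End (ZMod 2) A) :
    G →* Module.End F (F ⊗[ZMod 2] A) where
  toFun g := (α g).baseChange F
  map_one' := by rw [map_one]; exact LinearMap.baseChange_id
  map_mul' g h := by rw [map_mul]; exact LinearMap.baseChange_comp _ _

/-- The action on functions to the field. -/
def homRep [Algebra (ZMod 2) F] (α : G →* Module.End (ZMod 2) A) : G →* Module.End F (A →ₗ[ZMod 2] F) where
  toFun g :=
    { toFun := fun f => f.comp (α g⁻¹)
      map_add' := fun f f' => LinearMap.add_comp _ _ _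
      map_smul' := fun r f => rfl }
  map_one' := by ext f a; simp
  map_mul' g h := by ext f a; simp

theorem fpf_bcRep [Algebra (ZMod 2) F] {α : G →* Module.End (ZMod 2) A} (hα : FPF α) : FPF (bcRep F α) := by
  intro g hg hg1 v hv
  let L := LinearEquiv.ofBijective _ (bij_sub_one hα hg hg1)
  have h0 : L.toLinearMap.baseChange F v = 0 := by
    show (α g - 1 : Module.End (ZMod 2) A).baseChange F v = 0
    rw [LinearMap.baseChange_sub, LinearMap.sub_apply, Module.End.one_eq_id, LinearMap.baseChange_id,
      LinearMap.id_apply, sub_eq_zero]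
    exact hv
  have h1 : (L.symm.toLinearMap.comp L.toLinearMap).baseChange F v = 0 := by
    rw [LinearMap.baseChange_comp, LinearMap.comp_apply, h0, map_zero]
  rw [show L.symm.toLinearMap.comp L.toLinearMap = LinearMap.id from LinearMap.ext L.symm_apply_apply,
    LinearMap.baseChange_id, LinearMap.id_apply] at h1
  exact h1

theorem fpf_homRep [Algebra (ZMod 2) F] {α : G →* Module.End (ZMod 2) A} (hα : FPF α) : FPF (homRep F α) := by
  intro g hg hg1 f hf
  ext a
  obtain ⟨b, rfl⟩ := (bij_sub_one hα hg hg1).2 a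
  have h := LinearMap.congr_fun hf (α g b)
  change f (α g⁻¹ (α g b)) = f (α g b) at h
  rw [apply_inv_self] at h
  rw [LinearMap.sub_apply, Module.End.one_apply, map_sub, ← h, sub_self, LinearMap.zero_apply]

variable {F}

/-- An equivariant bilinear map between groups without fixed points vanishes. -/
theorem Frame.bilinear_zero (A' : Frame R ι n) {C : Type v} [AddCommGroup C] [Module (ZMod 2) C] [Finite C]
    {α : G →* Module.End (ZMod 2) A} {γ : G →* Module.End (ZMod 2) C} (hα : FPF α) (hγ : FPF γ)
    (B : A →ₗ[ZMod 2] A →ₗ[ZMod 2] C) (hB : ∀ g a b, B (α g a) (α g b) = γ g (B a b)) : B = 0 := by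
  classical
  letI : Algebra (ZMod 2) F := ZMod.algebra F 2
  haveI : Finite (F ⊗[ZMod 2] A) := Module.finite_of_finite F
  haveI : Finite (C →ₗ[ZMod 2] F) := Finite.of_injective _ DFunLike.coe_injective
  let β₁ : A →ₗ[ZMod 2] (F ⊗[ZMod 2] A →ₗ[F] Module.Dual F (C →ₗ[ZMod 2] F)) :=
    { toFun := fun a => LinearMap.liftBaseChange F
        { toFun := fun b =>
            { toFun := fun f => f (B a b)
              map_add' := fun f f' => rfl
              map_smul' := fun r f => rfl }
          map_add' := fun b b' => by ext f; simp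
          map_smul' := fun r b => by ext f; simp }
      map_add' := fun a a' => by ext x; simp
      map_smul' := fun r a => by ext x; simp }
  let β := LinearMap.liftBaseChange F β₁
  have hinv : InvTri (bcRep F α) (bcRep F α) (homRep F γ) β := by
    intro g x y f
    induction x using TensorProduct.induction_on with
    | zero => simp
    | add x x' hx hx' => simp only [map_add, LinearMap.add_apply, hx, hx']
    | tmul r a =>
      induction y using TensorProduct.induction_on with
      | zero => simp
      | add y y' hy hy' => simp only [map_add, LinearMap.add_apply, hy, hy']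
      | tmul s b =>
        simp only [bcRep, homRep, MonoidHom.coe_mk, OneHom.coe_mk, LinearMap.baseChange_tmul, β, β₁,
          LinearMap.liftBaseChange_tmul, LinearMap.coe_mk, AddHom.coe_mk, LinearMap.smul_apply, smul_eq_mul,
          LinearMap.comp_apply]
        rw [hB, apply_inv_self]
  have hz := A'.tri_zero _ _ _ (fpf_bcRep F hα) (fpf_bcRep F hα) (fpf_homRep F hγ) hinv
  ext a b
  refine (Module.forall_dual_apply_eq_zero_iff (ZMod 2) _).1 fun φ => ?_
  have h := DFunLike.congr_fun (DFunLike.congr_fun (DFunLike.congr_fun hz (1 ⊗ₜ a)) (1 ⊗ₜ b))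
    ((Algebra.linearMap (ZMod 2) F).comp φ)
  simp only [β, β₁, LinearMap.liftBaseChange_tmul, LinearMap.coe_mk, AddHom.coe_mk, one_smul, LinearMap.comp_apply,
    LinearMap.zero_apply, Algebra.linearMap_apply] at h
  exact (map_eq_zero_iff _ (algebraMap (ZMod 2) F).injective).1 h

end Bil

theorem natCast_four : ((4 : ℕ) : WTwo F) = 0 := by
  rw [show (4 : ℕ) = 2 * 2 from rfl, Nat.cast_mul, Nat.cast_ofNat, WTwo.four]

/-- Homomorphisms to Witt vectors of length two separate doubles in groups of exponent four. -/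
theorem exists_hom_double {E : Type v} [AddCommGroup E] [Finite E] (h4 : ∀ x : E, 4 • x = 0) {x : E}
    (hx : 2 • x ≠ 0) : ∃ f : E →+ WTwo F, f (2 • x) ≠ 0 := by
  classical
  obtain ⟨κ, _, m, hm, ⟨e⟩⟩ := AddCommGroup.equiv_directSum_zmod_of_finite' E
  obtain ⟨i, hi⟩ : ∃ i, (e (2 • x)) i ≠ 0 := by
    by_contra hc
    push Not at hc
    exact hx (e.map_eq_zero_iff.1 (DFinsupp.ext hc))
  rw [map_nsmul, DFinsupp.smul_apply] at hi
  have hm4 : m i = 4 := by
    have h := congrArg (fun y => e y i) (h4 (e.symm (DirectSum.of (fun j => ZMod (m j)) i 1)))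
    simp only [map_nsmul, AddEquiv.apply_symm_apply, map_zero, DirectSum.zero_apply] at h
    rw [show ∀ y : DirectSum κ (fun j => ZMod (m j)), (4 • y) i = 4 • y i from fun y => rfl,
      DirectSum.of_eq_same, nsmul_one] at h
    have hd : m i ∣ 4 := (ZMod.natCast_eq_zero_iff 4 (m i)).1 h
    have hle : m i ≤ 4 := Nat.le_of_dvd (by norm_num) hd
    have hne2 : m i ≠ 2 := fun h2 => hi (by
      rw [nsmul_eq_mul, show ((2 : ℕ) : ZMod (m i)) = 0 by
        rw [ZMod.natCast_eq_zero_iff]; exact h2 ▸ dvd_rfl, zero_mul])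
    have := hm i
    have h3 : m i ≠ 3 := fun h3 => by rw [h3] at hd; omega
    omega
  let l : ZMod (m i) →+ WTwo F := ZMod.lift (m i) ⟨Int.castAddHom _, by
    rw [hm4]; exact_mod_cast natCast_four⟩
  refine ⟨l.comp ((DirectSum.component ℕ κ (fun j => ZMod (m j)) i).toAddMonoidHom.comp e.toAddMonoidHom), ?_⟩
  show l (e (2 • x) i) ≠ 0
  haveI : NeZero (m i) := ⟨by omega⟩
  rw [map_nsmul, DFinsupp.smul_apply, map_nsmul]
  set v := (e x i).val with hv
  have hxv : e x i = ((v : ℤ) : ZMod (m i)) := by rw [Int.cast_natCast, hv, ZMod.natCast_zmod_val]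
  have hodd : Odd v := by
    rw [← Nat.not_even_iff_odd, even_iff_two_dvd]
    rintro ⟨k, hk⟩
    refine hi ?_
    rw [hxv, Int.cast_natCast, hk, nsmul_eq_mul, ← Nat.cast_mul, ZMod.natCast_eq_zero_iff, hm4]
    exact ⟨k, by ring⟩
  rw [hxv, ZMod.lift_coe]
  obtain ⟨k, hk⟩ := hodd
  show 2 • ((v : ℤ) : WTwo F) ≠ 0
  rw [Int.cast_natCast, hk, nsmul_eq_mul, Nat.cast_add, Nat.cast_mul, mul_add, ← mul_assoc, Nat.cast_ofNat, WTwo.four,
    zero_mul, zero_add, Nat.cast_one, mul_one]
  exact WTwo.two_ne

/-- The action on homomorphisms to Witt vectors. -/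
def wRep {E : Type v} [AddCommGroup E] (α : G →* AddMonoid.End E) :
    G →* Module.End (WTwo F) (E →+ WTwo F) where
  toFun g :=
    { toFun := fun f => f.comp (α g⁻¹)
      map_add' := fun f f' => rfl
      map_smul' := fun r f => rfl }
  map_one' := by
    refine LinearMap.ext fun f => AddMonoidHom.ext fun a => ?_
    show f (α 1⁻¹ a) = f a
    rw [inv_one, map_one]
    rfl
  map_mul' g h := by
    refine LinearMap.ext fun f => AddMonoidHom.ext fun a => ?_
    show f (α (g * h)⁻¹ a) = f (α h⁻¹ (α g⁻¹ a))
    rw [mul_inv_rev, map_mul]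
    rfl

/-- A group of exponent four without fixed points has exponent two. -/
theorem Frame.exponent_two (A : Frame R ι n) {E : Type v} [AddCommGroup E] [Finite E] (α : G →* AddMonoid.End E)
    (hα : ∀ g : G, Odd (orderOf g) → g ≠ 1 → ∀ a, α g a = a → a = 0) (h4 : ∀ x : E, 4 • x = 0) (x : E) :
    2 • x = 0 := by
  by_contra hx
  obtain ⟨f, hf⟩ := exists_hom_double (F := F) h4 hx
  haveI : Finite (E →+ WTwo F) := Finite.of_injective _ DFunLike.coe_injective
  have hfix : ∀ g : G, Odd (orderOf g) → g ≠ 1 → ∀ f : E →+ WTwo F, wRep α g f = f → f = 0 := by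
    intro g hg hg1 f hfg
    have hinj : Function.Injective fun a => α g a - a := fun a b e => by
      refine sub_eq_zero.1 (hα g hg hg1 _ ?_)
      rw [map_sub, sub_eq_sub_iff_sub_eq_sub]
      exact e
    refine AddMonoidHom.ext fun a => ?_
    obtain ⟨b, rfl⟩ := Finite.injective_iff_surjective.1 hinj a
    have h := DFunLike.congr_fun hfg (α g b)
    have hinv : α g⁻¹ (α g b) = b := by
      show (α g⁻¹ * α g) b = b
      rw [← map_mul, inv_mul_cancel, map_one]
      rfl
    change f (α g⁻¹ (α g b)) = f (α g b) at h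
    rw [hinv] at h
    rw [map_sub, ← h, sub_self, AddMonoidHom.zero_apply]
  have h := A.two_smul_eq_zero (wRep α) hfix f
  refine hf ?_
  rw [map_nsmul, nsmul_eq_mul, Nat.cast_ofNat]
  exact DFunLike.congr_fun h x

end Cfsg.Agent.Lie.FPFTop
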