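import Mathlib

/-!
# Representations without fixed points of odd order elements: basic tools

Weights of a split torus, fixed points of two-groups and minimal invariant subspaces.
-/

set_option autoImplicit false

namespace Cfsg.Agent.Lie.FPFTop

universe u v

variable {F : Type*} [Field F] {G : Type u} [Group G]
variable {V : Type v} [AddCommGroup V] [Module F V]

/-- A linear action with no nonzero vector fixed by a nontrivial element of odd order. -/
def FPF (ρ : G →* Module.End F V) : Prop :=
  ∀ g : G, Odd (orderOf g) → g ≠ 1 → ∀ v, ρ g v = v → v = 0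

/-- A submodule preserved by the action. -/
def Inv (ρ : G →* Module.End F V) (W : Submodule F V) : Prop := ∀ g, ∀ w ∈ W, ρ g w ∈ W

/-- An action without proper nonzero invariant submodules. -/
def Simple (ρ : G →* Module.End F V) : Prop :=
  Nontrivial V ∧ ∀ W : Submodule F V, Inv ρ W → W = ⊥ ∨ W = ⊤

theorem apply_mul (ρ : G →* Module.End F V) (g h : G) (v : V) : ρ (g * h) v = ρ g (ρ h v) := by
  rw [map_mul]; rfl

theorem apply_one (ρ : G →* Module.End F V) (v : V) : ρ 1 v = v := by rw [map_one]; rfl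

theorem apply_inv_self (ρ : G →* Module.End F V) (g : G) (v : V) : ρ g⁻¹ (ρ g v) = v := by
  rw [← apply_mul, inv_mul_cancel, apply_one]

theorem apply_self_inv (ρ : G →* Module.End F V) (g : G) (v : V) : ρ g (ρ g⁻¹ v) = v := by
  rw [← apply_mul, mul_inv_cancel, apply_one]

/-- The restriction to an invariant submodule. -/
def res (ρ : G →* Module.End F V) (W : Submodule F V) (hW : Inv ρ W) : G →* Module.End F W where
  toFun g := (ρ g).restrict fun w hw => hW g w hw
  map_one' := by ext w; simp
  map_mul' g h := by ext w; simp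

/-- The action on the quotient by an invariant submodule. -/
def quo (ρ : G →* Module.End F V) (W : Submodule F V) (hW : Inv ρ W) : G →* Module.End F (V ⧸ W) where
  toFun g := W.mapQ W (ρ g) fun w hw => hW g w hw
  map_one' := by ext x; simp
  map_mul' g h := by ext x; simp

/-- The dual action. -/
def dual (ρ : G →* Module.End F V) : G →* Module.End F (Module.Dual F V) where
  toFun g := (ρ g⁻¹).dualMap
  map_one' := by ext f x; simp
  map_mul' g h := by ext f x; simp

/-- A nonzero finite action contains a simple invariant submodule. -/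
theorem exists_simple [Finite V] [Nontrivial V] (ρ : G →* Module.End F V) :
    ∃ (W : Submodule F V) (hW : Inv ρ W), Simple (res ρ W hW) := by
  classical
  obtain ⟨W, ⟨hW, hW0⟩, hmin⟩ := Set.Finite.exists_minimalFor (fun W : Submodule F V => Nat.card W)
    {W : Submodule F V | Inv ρ W ∧ W ≠ ⊥} (Set.toFinite _)
    ⟨⊤, fun _ _ _ => trivial, top_ne_bot⟩
  refine ⟨W, hW, Submodule.nontrivial_iff_ne_bot.2 hW0, fun X hX => ?_⟩
  by_cases hX0 : X = ⊥
  · exact Or.inl hX0
  right
  have hinv : Inv ρ (X.map W.subtype) := fun g x hx => by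
    obtain ⟨y, hy, rfl⟩ := hx
    exact ⟨res ρ W hW g y, hX g y hy, rfl⟩
  have hne : X.map W.subtype ≠ ⊥ := fun h => hX0 (by
    exact Submodule.map_injective_of_injective W.injective_subtype (h.trans (Submodule.map_bot _).symm))
  have hle : X.map W.subtype ≤ W := Submodule.map_subtype_le W X
  have hc : Nat.card ↥(X.map W.subtype) ≤ Nat.card W := Nat.card_le_card_of_injective
    (Submodule.inclusion hle) (Submodule.inclusion_injective hle)
  have hge := hmin ⟨hinv, hne⟩ hc
  have heq : X.map W.subtype = W := SetLike.coe_injective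
    (Set.eq_of_subset_of_ncard_le hle hge (Set.toFinite _))
  refine eq_top_iff.2 fun w _ => ?_
  obtain ⟨y, hy, hyw⟩ := heq.ge w.2
  rwa [show w = y from Subtype.ext hyw.symm]

/-- A two-group of operators fixes a nonzero vector in characteristic two. -/
theorem exists_fixed [Finite V] [Nontrivial V] [CharP F 2] (ρ : G →* Module.End F V) (U : Subgroup G)
    [Finite U] (hU : IsPGroup 2 U) : ∃ v : V, v ≠ 0 ∧ ∀ u ∈ U, ρ u v = v := by
  classical
  haveI : Fact (Nat.Prime 2) := ⟨Nat.prime_two⟩
  letI : MulAction U V :=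
    { smul := fun u v => ρ u v
      one_smul := fun v => apply_one ρ v
      mul_smul := fun a b v => apply_mul ρ a b v }
  obtain ⟨v, hv⟩ := exists_ne (0 : V)
  have h2 : 2 ∣ Nat.card V := by
    have hvv : (2 : ℕ) • v = 0 := by
      rw [two_nsmul, ← one_smul F v, ← add_smul, CharTwo.add_self_eq_zero, zero_smul]
    have : addOrderOf v = 2 := by
      have hd := addOrderOf_dvd_of_nsmul_eq_zero hvv
      rcases (Nat.dvd_prime Nat.prime_two).1 hd with h | h
      · exact absurd (AddMonoid.addOrderOf_eq_one_iff.1 h) hv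
      · exact h
    rw [← this]
    exact addOrderOf_dvd_natCard v
  obtain ⟨b, hb, hb0⟩ := hU.exists_fixed_point_of_prime_dvd_card_of_fixed_point V h2
    (a := (0 : V)) (fun u => show ρ u (0 : V) = 0 from map_zero _)
  exact ⟨b, Ne.symm hb0, fun u hu => hb ⟨u, hu⟩⟩

section Weights

variable [Fintype F] [DecidableEq F] (h : Fˣ →* G) (ρ : G →* Module.End F V)

/-- `v` has weight `μ` for the torus `h`. -/
def IsWt (μ : ℕ) (v : V) : Prop := ∀ x : Fˣ, ρ (h x) v = ((x : F) ^ μ) • v

/-- The projection on a weight space. -/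
noncomputable def wproj (μ : ℕ) (v : V) : V := -∑ x : Fˣ, (((x : F) ^ μ)⁻¹) • ρ (h x) v

theorem units_pow_card (x : Fˣ) : (x : F) ^ (Fintype.card F - 1) = 1 :=
  FiniteField.pow_card_sub_one_eq_one _ x.ne_zero

theorem wproj_isWt (μ : ℕ) (v : V) : IsWt h ρ μ (wproj h ρ μ v) := by
  intro y
  simp only [wproj, map_neg, map_sum, map_smul, smul_neg, Finset.smul_sum, smul_smul]
  congr 1
  refine Fintype.sum_equiv (Equiv.mulLeft y) _ _ fun x => ?_
  rw [Equiv.coe_mulLeft, map_mul, apply_mul, Units.val_mul, mul_pow, mul_inv]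
  congr 1
  have := pow_ne_zero μ y.ne_zero
  field_simp

theorem sum_wproj (v : V) : ∑ μ ∈ Finset.range (Fintype.card F - 1), wproj h ρ μ v = v := by
  classical
  have hq : 2 ≤ Fintype.card F := Fintype.one_lt_card
  simp only [wproj, Finset.sum_neg_distrib]
  rw [Finset.sum_comm]
  simp only [← Finset.sum_smul]
  rw [Finset.sum_eq_single (1 : Fˣ)]
  · simp only [Units.val_one, one_pow, inv_one, Finset.sum_const, Finset.card_range, map_one, Module.End.one_apply,
      nsmul_eq_mul, mul_one]
    rw [Nat.cast_sub (by omega), FiniteField.cast_card_eq_zero, Nat.cast_one, zero_sub, neg_smul, neg_neg, one_smul]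
  · intro x _ hx
    have hx' : ((x : F))⁻¹ ≠ 1 := fun e => hx (Units.ext (inv_eq_one.1 e))
    have hsum := geom_sum_eq hx' (Fintype.card F - 1)
    simp only [inv_pow] at hsum
    rw [hsum, units_pow_card, inv_one, sub_self, zero_div, zero_smul]
  · intro hn; exact absurd (Finset.mem_univ _) hn

theorem wproj_eq_zero_or (v : V) (hv : v ≠ 0) : ∃ μ < Fintype.card F - 1, wproj h ρ μ v ≠ 0 := by
  by_contra hc
  push Not at hc
  refine hv ?_
  rw [← sum_wproj h ρ v]
  exact Finset.sum_eq_zero fun μ hμ => hc μ (Finset.mem_range.1 hμ)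

/-- A two-group normalised by the torus fixes a nonzero weight vector. -/
theorem exists_fixed_wt [Finite V] [Nontrivial V] [CharP F 2] (U : Subgroup G) [Finite U] (hU : IsPGroup 2 U)
    (hnorm : ∀ x : Fˣ, ∀ u ∈ U, (h x)⁻¹ * u * h x ∈ U) :
    ∃ (v : V) (μ : ℕ), v ≠ 0 ∧ IsWt h ρ μ v ∧ ∀ u ∈ U, ρ u v = v := by
  obtain ⟨v, hv, hfix⟩ := exists_fixed ρ U hU
  obtain ⟨μ, -, hμ⟩ := wproj_eq_zero_or h ρ v hv
  refine ⟨_, μ, hμ, wproj_isWt h ρ μ v, fun u hu => ?_⟩
  simp only [wproj, map_neg, map_sum, map_smul]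
  congr 1
  refine Finset.sum_congr rfl fun x _ => ?_
  congr 1
  conv_rhs => rw [← hfix _ (hnorm x u hu), ← apply_mul]
  rw [← apply_mul]
  congr 2
  group

end Weights

end Cfsg.Agent.Lie.FPFTop
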