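import Cfsg.Agent.Lib.Lie.FPFTop.Chars

/-!
# Sums of powers of two modulo `2 ^ n - 1`
-/

set_option autoImplicit false
set_option linter.unusedSectionVars false

namespace Cfsg.Agent.Lie.FPFTop

variable {F : Type*} [Field F] [Fintype F] [DecidableEq F] [CharP F 2] {n : ℕ}

/-- A power of two as an exponent. -/
def p2 (i : Fin n) : Exps F := ((2 ^ (i : ℕ) : ℕ) : Exps F)

variable (hF : Fintype.card F = 2 ^ n) (hn : 1 < n)
include hF

theorem two_pow_period : (2 : Exps F) ^ n = 1 := by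
  have h : ((2 ^ n : ℕ) : Exps F) = 1 := by
    rw [show 2 ^ n = (Fintype.card F - 1) + 1 by rw [hF]; have := Nat.one_le_two_pow (n := n); omega,
      Nat.cast_add, ZMod.natCast_self, zero_add, Nat.cast_one]
  exact_mod_cast h

theorem two_pow_mod (k : ℕ) : (2 : Exps F) ^ (k % n) = 2 ^ k := by
  conv_rhs => rw [← Nat.mod_add_div k n, pow_add, pow_mul, two_pow_period hF, one_pow, mul_one]

theorem p2_add (i j : Fin n) : (p2 i : Exps F) * p2 j = p2 (i + j) := by
  simp only [p2, Nat.cast_pow, Nat.cast_ofNat, Fin.val_add]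
  rw [two_pow_mod hF, pow_add]

theorem p2_ofNat [NeZero n] (k : ℕ) : (p2 (Fin.ofNat n k) : Exps F) = 2 ^ k := by
  simp only [p2, Nat.cast_pow, Nat.cast_ofNat, Fin.val_ofNat]
  exact two_pow_mod hF k

theorem p2_isUnit (i : Fin n) : IsUnit (p2 i : Exps F) := by
  refine isUnit_of_dvd_one ⟨(2 : Exps F) ^ (n - i.1), ?_⟩
  simp only [p2, Nat.cast_pow, Nat.cast_ofNat, ← pow_add]
  rw [Nat.add_sub_cancel' i.2.le, two_pow_period hF]

include hn

/-- Sums over proper nonempty sets of powers of two are distinct. -/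
theorem bits_inj {I J : Finset (Fin n)} (hI : I.Nonempty) (hI' : I ≠ Finset.univ) (hJ : J.Nonempty)
    (h : ∑ i ∈ I, (p2 i : Exps F) = ∑ i ∈ J, p2 i) : I = J := by
  have hu : ∑ i : Fin n, 2 ^ (i : ℕ) = 2 ^ n - 1 := by
    rw [Fin.sum_univ_eq_sum_range (fun i => 2 ^ i), Nat.geomSum_eq le_rfl]
    simp
  have hle : ∀ K : Finset (Fin n), ∑ i ∈ K, 2 ^ (i : ℕ) ≤ 2 ^ n - 1 := fun K =>
    hu ▸ Finset.sum_le_sum_of_subset (Finset.subset_univ K)
  have hlt : ∑ i ∈ I, 2 ^ (i : ℕ) < 2 ^ n - 1 := by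
    obtain ⟨a, ha⟩ : ∃ a, a ∉ I := by
      by_contra hall
      push Not at hall
      exact hI' (Finset.eq_univ_of_forall hall)
    rw [← hu]
    exact Finset.sum_lt_sum_of_subset (Finset.subset_univ I) (Finset.mem_univ a) ha (Nat.two_pow_pos _)
      (fun _ _ _ => Nat.zero_le _)
  have hpos : ∀ K : Finset (Fin n), K.Nonempty → 0 < ∑ i ∈ K, 2 ^ (i : ℕ) := fun K hK =>
    Finset.sum_pos (fun _ _ => Nat.two_pow_pos _) hK
  simp only [p2, ← Nat.cast_sum] at h
  rw [ZMod.natCast_eq_natCast_iff, hF] at h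
  have h' : ∑ i ∈ I, 2 ^ (i : ℕ) = ∑ i ∈ J, 2 ^ (i : ℕ) := by
    rcases (hle J).lt_or_eq with hJlt | hJeq
    · exact h.eq_of_lt_of_lt hlt hJlt
    · rw [hJeq, Nat.ModEq, Nat.mod_self, Nat.mod_eq_of_lt hlt] at h
      exact absurd h (hpos I hI).ne'
  refine Finset.map_injective Fin.valEmbedding (Finset.geomSum_injective le_rfl ?_)
  simpa using h'

omit hF hn in
/-- A nonzero exponent gives a nontrivial power. -/
theorem exists_pow_ne {E : ℕ} (h : (E : Exps F) ≠ 0) : ∃ x : Fˣ, (x : F) ^ E ≠ 1 := by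
  by_contra hc
  push Not at hc
  refine h ?_
  rw [← Nat.cast_zero]
  exact cast_eq_of_pow fun x => by rw [hc x, pow_zero]

end Cfsg.Agent.Lie.FPFTop
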