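import Cfsg.Agent.Lib.Solv.CIT.Main
import Cfsg.Agent.Lib.Solv.CIT.Top
import Cfsg.Agent.Lib.Solv.CIT.CNLift
import Cfsg.Agent.Lib.Solv.CIT.EPPOSimple
import Cfsg.Agent.Lib.Solv.CNOddTheorem
import Cfsg.Agent.Lib.Small.SmallOrders
import Cfsg.Agent.Lib.Small.PSL2
import Cfsg.Agent.Lib.Classical.Dickson.Tools
import Cfsg.Agent.Lib.Classical.SL2FourSylow
import Cfsg.Agent.Lib.Spor.PlaneAut

/-!
# Nonsolvable groups with nilpotent centralisers and trivial solvable radical
-/

set_option autoImplicit false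
set_option linter.unusedSectionVars false
set_option linter.style.haveILetI false

namespace Cfsg.Agent.Lie.CNTop

open Cfsg Cfsg.Agent.Solv.CITGroups

universe u

variable {G : Type u} [Group G] [Finite G] {N : Subgroup G} [hN : N.Normal] {r : ℕ} [hr : Fact r.Prime]

/-- Twice the index divides the order of the automorphism group of a cyclic Sylow subgroup. -/
theorem two_mul_index_dvd (hC : CIT G) (hr2 : r ≠ 2) (R : Sylow r N) [hcyc : IsCyclic (R : Subgroup N)]
    (hR1 : 1 < Nat.card R)
    (ht : ∃ t : N, orderOf t = 2 ∧ t ∈ Subgroup.normalizer ((R : Subgroup N) : Set N)) :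
    2 * N.index ∣ (Nat.card R).totient := by
  classical
  haveI : Fact (Nat.Prime 2) := ⟨Nat.prime_two⟩
  obtain ⟨t, hto, htn⟩ := ht
  set R' := (R : Subgroup N).map N.subtype with hR'
  set B := Subgroup.normalizer (R' : Set G) with hB
  have hfr : B ⊔ N = ⊤ := Sylow.normalizer_sup_eq_top R
  have hcardR' : Nat.card R' = Nat.card R :=
    (Nat.card_congr ((R : Subgroup N).equivMapOfInjective _ N.subtype_injective).toEquiv).symm
  have htB : (t : G) ∈ B := Subgroup.le_normalizer_map N.subtype ⟨t, htn, rfl⟩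
  obtain ⟨n, hn⟩ := IsPGroup.iff_card.1 R.isPGroup'
  obtain ⟨r₀, hr₀, hr₀1⟩ : ∃ x ∈ R', x ≠ (1 : G) := by
    by_contra hc
    push Not at hc
    rw [(Subgroup.eq_bot_iff_forall R').2 hc, Subgroup.card_bot] at hcardR'
    omega
  have hr₀o : Odd (orderOf r₀) := by
    refine Odd.of_dvd_nat ?_ (hcardR' ▸ Subgroup.orderOf_dvd_natCard R' hr₀)
    rw [hn]
    exact (hr.out.odd_of_ne_two hr2).pow
  set K := Subgroup.centralizer (R' : Set G) with hK
  have hKB : K ≤ B := Subgroup.centralizer_le_normalizer _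
  have hKodd : Odd (Nat.card K) := by
    by_contra hev
    rw [Nat.not_odd_iff_even, even_iff_two_dvd] at hev
    obtain ⟨s, hs⟩ := exists_prime_orderOf_dvd_card' (G := K) 2 hev
    rw [← Subgroup.orderOf_coe] at hs
    exact hr₀1 (hC.eq_one_of_commute hs hr₀o (Subgroup.mem_centralizer_iff.1 s.2 r₀ hr₀))
  have hBK : ∀ b ∈ B, ∀ k ∈ K, b * k * b⁻¹ ∈ K := by
    intro b hb k hk
    refine Subgroup.mem_centralizer_iff.2 fun v hv => ?_
    have h1 : b⁻¹ * v * b ∈ R' := by
      have := (Subgroup.mem_normalizer_iff.1 (B.inv_mem hb) v).1 hv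
      rwa [inv_inv] at this
    calc v * (b * k * b⁻¹) = b * ((b⁻¹ * v * b) * k) * b⁻¹ := by group
      _ = b * (k * (b⁻¹ * v * b)) * b⁻¹ := by rw [Subgroup.mem_centralizer_iff.1 hk _ h1]
      _ = _ := by group
  have hto' : orderOf (t : G) = 2 := by rw [Subgroup.orderOf_coe, hto]
  have hinv := hC.inverts hto' hKodd fun a ha => hBK _ htB a ha
  have hKN : K ≤ N := by
    intro k hk
    have h1 : k * k ∈ N := by
      have h2 : k * t * k⁻¹ * (t : G)⁻¹ ∈ N := mul_mem (hN.conj_mem _ t.2 k) (inv_mem t.2)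
      have h3 : (t : G) * k⁻¹ * (t : G)⁻¹ = k := by rw [hinv _ (K.inv_mem hk), inv_inv]
      rwa [show k * t * k⁻¹ * (t : G)⁻¹ = k * ((t : G) * k⁻¹ * (t : G)⁻¹) by group, h3] at h2
    obtain ⟨m, hm⟩ := hKodd.of_dvd_nat (Subgroup.orderOf_dvd_natCard K hk)
    have h4 : (k * k) ^ (m + 1) = k := by
      rw [← pow_two, ← pow_mul, show 2 * (m + 1) = (2 * m + 1) + 1 by ring, ← hm, pow_succ, pow_orderOf_eq_one,
        one_mul]
    exact h4 ▸ N.pow_mem h1 _
  -- inside the normaliser
  haveI : IsCyclic R' := isCyclic_of_surjective ((R : Subgroup N).equivMapOfInjective _ N.subtype_injective).toMonoidHom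
    (MulEquiv.surjective _)
  have hidx : (K.subgroupOf B).index ∣ (Nat.card R).totient := by
    have e : R'.normalizerMonoidHom.ker = K.subgroupOf B := Subgroup.normalizerMonoidHom_ker R'
    rw [← e, Subgroup.index_ker, ← hcardR', ← IsCyclic.card_mulAut R']
    exact Subgroup.card_subgroup_dvd_card _
  have hsplit : (K.subgroupOf B).index = K.relIndex (B ⊓ N) * (N.relIndex B) := by
    show K.relIndex B = _
    rw [← Subgroup.relIndex_mul_relIndex K (B ⊓ N) B (le_inf hKB hKN) inf_le_left, Subgroup.inf_relIndex_left]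
  have hNB : N.relIndex B = N.index := by
    rw [← Subgroup.relIndex_sup_right B N, hfr, Subgroup.relIndex_top_right]
  have h2 : 2 ∣ K.relIndex (B ⊓ N) := by
    by_contra hnd
    have h3 := Subgroup.card_mul_index (K.subgroupOf (B ⊓ N))
    have hodd' : Odd (Nat.card ↥(B ⊓ N)) := by
      rw [← h3, Nat.card_congr (Subgroup.subgroupOfEquivOfLe (le_inf hKB hKN)).toEquiv]
      exact hKodd.mul (Nat.not_even_iff_odd.1 fun e => hnd (even_iff_two_dvd.1 e))
    have := hodd'.of_dvd_nat (Subgroup.orderOf_dvd_natCard _ (Subgroup.mem_inf.2 ⟨htB, t.2⟩))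
    rw [hto'] at this
    exact absurd this (by decide)
  rw [hsplit, hNB] at hidx
  exact (Nat.mul_dvd_mul_right h2 _).trans hidx

/-- An involution normalises the Sylow subgroup when the index is even. -/
theorem exists_invol_normalizer [IsSimpleGroup N] (hC : CIT G) (hN2 : 2 ∣ Nat.card N) (hr2 : r ≠ 2) (R : Sylow r N)
    (hR1 : 1 < Nat.card R) (hidx : 2 ∣ N.index) :
    ∃ t : N, orderOf t = 2 ∧ t ∈ Subgroup.normalizer ((R : Subgroup N) : Set N) := by
  classical
  haveI : Fact (Nat.Prime 2) := ⟨Nat.prime_two⟩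
  set A := Subgroup.normalizer ((R : Subgroup N) : Set N) with hA
  by_contra hno
  push Not at hno
  have hAodd : Odd (Nat.card A) := by
    by_contra hev
    rw [Nat.not_odd_iff_even, even_iff_two_dvd] at hev
    obtain ⟨s, hs⟩ := exists_prime_orderOf_dvd_card' (G := A) 2 hev
    exact hno s (by rw [Subgroup.orderOf_coe, hs]) s.2
  set R' := (R : Subgroup N).map N.subtype with hR'
  set B := Subgroup.normalizer (R' : Set G) with hB
  have hfr : B ⊔ N = ⊤ := Sylow.normalizer_sup_eq_top R
  have hBcard : 2 ∣ Nat.card B := by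
    refine hidx.trans ?_
    rw [← Subgroup.relIndex_top_right, ← hfr, Subgroup.relIndex_sup_right]
    exact Subgroup.index_dvd_card _
  obtain ⟨y, hy⟩ := exists_prime_orderOf_dvd_card' (G := B) 2 hBcard
  rw [← Subgroup.orderOf_coe] at hy
  have hAB : A.map N.subtype = B ⊓ N := by
    refine le_antisymm (le_inf (Subgroup.le_normalizer_map N.subtype) (Subgroup.map_subtype_le _)) ?_
    rintro g ⟨hgB, hgN⟩
    refine ⟨⟨g, hgN⟩, Subgroup.mem_normalizer_iff.2 fun v => ?_, rfl⟩
    have hmem : ∀ w : N, (w : G) ∈ R' ↔ w ∈ (R : Subgroup N) := fun w =>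
      Subgroup.mem_map_iff_mem N.subtype_injective
    rw [← hmem, ← hmem]
    exact Subgroup.mem_normalizer_iff.1 hgB v
  have hodd' : Odd (Nat.card ↥(B ⊓ N)) := by
    rw [← hAB, ← Nat.card_congr (A.equivMapOfInjective _ N.subtype_injective).toEquiv]
    exact hAodd
  have hcomm := hC.comm_of_normalized hy hodd' fun a ha =>
    ⟨mul_mem (mul_mem y.2 ha.1) (B.inv_mem y.2), hN.conj_mem _ ha.2 _⟩
  refine Small.SmallOrders.false_of_central R hR1 ?_ fun a ha => Subgroup.mem_centralizer_iff.2 fun v hv => Subtype.ext ?_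
  · rcases (Nat.le_of_dvd Nat.card_pos (Subgroup.card_subgroup_dvd_card (R : Subgroup N))).lt_or_eq with h | h
    · exact h
    · exfalso
      obtain ⟨n, hn⟩ := IsPGroup.iff_card.1 R.isPGroup'
      rw [← h, hn] at hN2
      exact hr2 ((Nat.prime_dvd_prime_iff_eq Nat.prime_two hr.out).1 (Nat.prime_two.dvd_of_dvd_pow hN2)).symm
  · exact hcomm _ ⟨Subgroup.le_normalizer (Subgroup.mem_map_of_mem N.subtype hv), v.2⟩ _
      ⟨Subgroup.le_normalizer_map N.subtype ⟨a, ha, rfl⟩, a.2⟩

/-- An involution normalises a Sylow subgroup of order five. -/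
theorem exists_invol_normalizer_five [IsSimpleGroup N] (R : Sylow r N) (hr5 : r = 5) (hR : Nat.card R = 5)
    (hlt : 5 < Nat.card N) : ∃ t : N, orderOf t = 2 ∧ t ∈ Subgroup.normalizer ((R : Subgroup N) : Set N) := by
  subst hr5
  haveI : Fact (Nat.Prime 2) := ⟨Nat.prime_two⟩
  set A := Subgroup.normalizer ((R : Subgroup N) : Set N) with hA
  by_contra hno
  push Not at hno
  have hAodd : Odd (Nat.card A) := by
    by_contra hev
    rw [Nat.not_odd_iff_even, even_iff_two_dvd] at hev
    obtain ⟨s, hs⟩ := exists_prime_orderOf_dvd_card' (G := A) 2 hev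
    exact hno s (by rw [Subgroup.orderOf_coe, hs]) s.2
  refine Small.SmallOrders.false_of_central R (by rw [hR]; norm_num) (by rw [hR]; exact hlt)
    (Small.SmallOrders.normalizer_le_centralizer _ hr.out hR ?_)
  rw [show (5 - 1 : ℕ) = 2 ^ 2 from rfl]
  exact (Nat.coprime_two_right.2 hAodd).pow_right 2

/-- A Sylow subgroup of prime order. -/
theorem sylow_card {r m : ℕ} [hr : Fact r.Prime] (R : Sylow r N) (h : Nat.card N = r * m) (hm : ¬ r ∣ m) :
    Nat.card R = r := by
  rw [R.card_eq_multiplicity, h, Nat.factorization_mul hr.out.ne_zero (fun e => hm (by rw [e]; exact dvd_zero r)),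
    Finsupp.add_apply, hr.out.factorization_self, Nat.factorization_eq_zero_of_not_dvd hm]
  norm_num

/-- The index of a linear group over nine elements or of `PSL(3, 4)`. -/
theorem index_dvd_two [IsSimpleGroup N] (hC : CIT G) {m : ℕ} (h : Nat.card N = 5 * m) (hm : ¬ 5 ∣ m) (h1 : 1 < m) :
    N.index ∣ 2 := by
  haveI : Fact (Nat.Prime 5) := ⟨by norm_num⟩
  obtain ⟨R⟩ : Nonempty (Sylow 5 N) := inferInstance
  have hR := sylow_card R h hm
  haveI : IsCyclic (R : Subgroup N) := isCyclic_of_prime_card hR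
  have h4 := two_mul_index_dvd hC (by norm_num) R (by rw [hR]; norm_num)
    (exists_invol_normalizer_five R rfl hR (by rw [h]; omega))
  rw [hR, Nat.totient_prime (by norm_num), show (5 - 1 : ℕ) = 2 * 2 from rfl] at h4
  exact Nat.dvd_of_mul_dvd_mul_left two_pos h4

/-- Index two is excluded by a cyclic Sylow subgroup with odd half of totient. -/
theorem index_ne_two [IsSimpleGroup N] (hC : CIT G) (hN2 : 2 ∣ Nat.card N) (hr2 : r ≠ 2) (R : Sylow r N)
    [IsCyclic (R : Subgroup N)] (hR1 : 1 < Nat.card R) (h4 : ¬ 4 ∣ (Nat.card R).totient) : N.index ≠ 2 := fun e =>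
  h4 (by
    have := two_mul_index_dvd hC hr2 R hR1 (exists_invol_normalizer hC hN2 hr2 R hR1 (e ▸ dvd_rfl))
    rwa [e] at this)

section Linear

open Cfsg.Agent.Small

/-- The index of a linear group over a prime field divides two. -/
theorem index_dvd_two_psl {K : Type} [Field K] [Fintype K] (hp : (Fintype.card K).Prime) (hp2 : Fintype.card K ≠ 2)
    (hcen : Subgroup.centralizer (N : Set G) = ⊥)
    (e : N ≃* Matrix.ProjectiveSpecialLinearGroup (Fin 2) K) : N.index ∣ 2 := by
  classical
  obtain ⟨p, hK⟩ : ∃ p, Fintype.card K = p := ⟨_, rfl⟩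
  rw [hK] at hp hp2
  haveI := Fact.mk hp
  let Φ : G →* MulAut (Matrix.ProjectiveSpecialLinearGroup (Fin 2) K) :=
    (MulAut.congr e).toMonoidHom.comp (MulAut.conjNormal (H := N))
  have hinj : Function.Injective Φ := by
    rw [injective_iff_map_eq_one]
    intro g hg
    have h1 : (MulAut.conjNormal g : MulAut N) = 1 :=
      (MulAut.congr e).injective (hg.trans (map_one _).symm)
    have h2 : g ∈ Subgroup.centralizer (N : Set G) := Subgroup.mem_centralizer_iff.2 fun n hn => by
      have h3 : ((MulAut.conjNormal g ⟨n, hn⟩ : N) : G) = n := by rw [h1]; rfl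
      rw [MulAut.conjNormal_apply] at h3
      exact (mul_inv_eq_iff_eq_mul.1 h3).symm
    rw [hcen] at h2
    exact Subgroup.mem_bot.1 h2
  have hsub : Φ.range ≤ (PSL2.conjP (F := K)).range := by
    rintro _ ⟨g, rfl⟩
    obtain ⟨a, σ, ha⟩ := PSL2.aut_eq (p := p) (f := 1) (by rw [hK, pow_one]) (Φ g)
    have hσ : σ = RingEquiv.refl K := RingEquiv.ext fun x => by
      haveI : CharP K p := charP_of_card_eq_prime hK
      obtain ⟨i, rfl⟩ := (ZMod.ringEquivOfPrime K hp hK).surjective x
      obtain ⟨n, rfl⟩ := ZMod.natCast_zmod_surjective (n := p) i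
      simp
    have hone : PSL2.fieldP σ = 1 := by
      rw [hσ]
      refine MulEquiv.ext fun x => ?_
      obtain ⟨A, rfl⟩ := PSL2.pr_surjective x
      rw [PSL2.fieldP_apply]
      refine congrArg PSL2.pr (Subtype.ext (Matrix.ext fun i j => ?_))
      rw [PSL2.fieldSL_apply]
      rfl
    exact ⟨a, by rw [ha, hone, mul_one]⟩
  have h1 : Nat.card G ∣ Nat.card (PSL2.conjP (F := K)).range := by
    rw [Nat.card_congr (MonoidHom.ofInjective hinj).toEquiv]
    exact Subgroup.card_dvd_of_le hsub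
  let sc : Kˣ →* GL (Fin 2) K := Units.map (Matrix.scalar (Fin 2)).toMonoidHom
  have hsc : Function.Injective sc := fun a b h => by
    have := congrArg (fun M : GL (Fin 2) K => (M : Matrix (Fin 2) (Fin 2) K) 0 0) h
    exact Units.ext (by simpa [sc] using this)
  have hker : sc.range ≤ (PSL2.conjP (F := K)).ker := by
    rintro _ ⟨c, rfl⟩
    refine MulEquiv.ext fun x => ?_
    obtain ⟨A, rfl⟩ := PSL2.pr_surjective x
    rw [PSL2.conjP_apply]
    refine congrArg PSL2.pr (Subtype.ext ?_)
    have hc : (sc c).val * A.1 = A.1 * (sc c).val :=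
      (Matrix.scalar_commute (c : K) (fun _ => Commute.all _ _) A.1).eq
    rw [PSL2.conjSL_val, hc, mul_assoc, Units.mul_inv, mul_one]
  have h2 : (p - 1) ∣ Nat.card (PSL2.conjP (F := K)).ker := by
    refine (dvd_of_eq ?_).trans (Subgroup.card_dvd_of_le hker)
    rw [← Nat.card_congr (MonoidHom.ofInjective hsc).toEquiv, Nat.card_units, Nat.card_eq_fintype_card, hK]
  have h3 : Nat.card G * (p - 1) ∣ Nat.card (GL (Fin 2) K) := by
    refine (Nat.mul_dvd_mul h1 h2).trans (dvd_of_eq ?_)
    rw [← Subgroup.index_ker, mul_comm, Subgroup.card_mul_index]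
  rw [Matrix.card_GL_field, hK, Fin.prod_univ_two] at h3
  simp only [Fin.val_zero, Fin.val_one, pow_zero, pow_one] at h3
  rw [show p ^ 2 - p = p * (p - 1) by rw [pow_two, Nat.mul_sub, mul_one], ← mul_assoc] at h3
  have hp1 : 0 < p - 1 := by have := hp.two_le; omega
  have h4 := Nat.dvd_of_mul_dvd_mul_right hp1 h3
  have h5 := Classical.Dickson.card_psl K
  have hodd : ¬ 2 ∣ p := fun h => hp2 ((Nat.prime_dvd_prime_iff_eq Nat.prime_two hp).1 h).symm
  rw [← Nat.card_congr e.toEquiv, hK, Nat.gcd_eq_left (by omega : 2 ∣ p - 1)] at h5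
  rw [← N.card_mul_index, mul_comm (p ^ 2 - 1) p, ← h5] at h4
  exact Nat.dvd_of_mul_dvd_mul_left Nat.card_pos h4

/-- Sylow 3-subgroups of `PSL(2, p)` are cyclic. -/
theorem cyclic_three {K : Type} [Field K] [Fintype K] (p : ℕ) [Fact p.Prime] [CharP K p] (hp3 : (3 : ℕ) ≠ p)
    (e : N ≃* Matrix.ProjectiveSpecialLinearGroup (Fin 2) K) [Fact (Nat.Prime 3)] (R : Sylow 3 N) :
    IsCyclic (R : Subgroup N) := by
  obtain ⟨R₀⟩ : Nonempty (Sylow 3 (Matrix.SpecialLinearGroup (Fin 2) K)) := inferInstance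
  haveI := Classical.SL2Four.sylow_odd_cyclic p 3 (by norm_num) hp3 R₀
  let f : Matrix.SpecialLinearGroup (Fin 2) K →* N := e.symm.toMonoidHom.comp (QuotientGroup.mk' _)
  have hf : Function.Surjective f := e.symm.surjective.comp (QuotientGroup.mk'_surjective _)
  let S := R₀.mapSurjective hf
  haveI : IsCyclic (S : Subgroup N) :=
    isCyclic_of_surjective (f.subgroupMap (R₀ : Subgroup (Matrix.SpecialLinearGroup (Fin 2) K)))
      (f.subgroupMap_surjective _)
  exact isCyclic_of_surjective (S.equiv R).toMonoidHom (MulEquiv.surjective _)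

end Linear

/-- The group above a linear or known simple group is simple, or is an extension of `PSL(2, 9)` by two. -/
theorem almost_simple {G : Type u} [Group G] [Finite G] (hCN : Cfsg.IsCNGroup G) (hns : ¬ Group.IsSolvable G)
    (hrad : ∀ K : Subgroup G, K.Normal → Group.IsSolvable K → K = ⊥) :
    (IsSimpleGroup G ∧ ¬ IsMulCommutative G) ∨
    ∃ (N : Subgroup G), N.Normal ∧ N.index = 2 ∧ ∃ (F : Type) (_ : Field F) (_ : Fintype F), Fintype.card F = 9 ∧
        Nonempty (N ≃* Matrix.ProjectiveSpecialLinearGroup (Fin 2) F) := by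
  classical
  haveI : Fact (Nat.Prime 2) := ⟨Nat.prime_two⟩
  haveI : Nontrivial G := by
    by_contra hn
    rw [not_nontrivial_iff_subsingleton] at hn
    exact hns inferInstance
  have hodd : ∀ K : Subgroup G, Odd (Nat.card K) → Group.IsSolvable K := fun K hK =>
    Solv.isSolvable_of_odd_cn hK (OddLocal.CN.subgroup hCN K)
  have hnil : ∀ v : G, orderOf v = 2 → Group.IsNilpotent (Subgroup.centralizer ({v} : Set G)) :=
    fun v hv => hCN v fun e => by rw [e, orderOf_one] at hv; omega
  obtain ⟨N, hNn, hN1, hmin⟩ := Solv.exists_minimal_normal (G := G)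
  haveI := hNn
  obtain ⟨hs, hna, hN2⟩ := simple_of_minimal hrad hodd hnil hN1 hmin
  haveI := hs
  have hCITN : CIT N := cit_of_cn hna (OddLocal.CN.subgroup hCN N)
  have hC : CIT G := cit_of_normal hna hCITN hN2 hnil fun g _ hg1 _ _ _ => hCN g hg1
  have hcore : Cfsg.pCore 2 G = ⊥ := by
    haveI := (Solv.pCore_isPGroup (G := G) 2).isNilpotent
    exact hrad _ (Solv.pCore_normal 2) inferInstance
  obtain ⟨-, -, -, hcen⟩ := hC.minimal_simple hns (hN2.trans (Subgroup.card_subgroup_dvd_card N)) hcore hN1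
    fun M hM hM1 hle => (hmin M hM hle).resolve_left hM1
  have hsimple : N.index = 1 → IsSimpleGroup G ∧ ¬ IsMulCommutative G := by
    intro h1
    rw [Subgroup.index_eq_one] at h1
    subst h1
    refine ⟨(Subgroup.topEquiv (G := G)).symm.isSimpleGroup, fun h => ?_⟩
    obtain ⟨a, b, hab⟩ := hna
    exact hab (Subtype.ext (h.is_comm.comm a.1 b.1))
  rcases classify hna hCITN hN2 (below_all _) with hB | ⟨K, i1, i2, hK, ⟨e⟩⟩ | ⟨-, K, i1, i2, hK, ⟨e⟩⟩
  · exact Or.inl (hsimple (by rw [Subgroup.index_eq_one]; exact hC.eq_top_of_bor hB))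
  · have hcard : Nat.card N = 20160 := (Nat.card_congr e.toEquiv).trans (Spor.PlaneAut.card_psl34 hK)
    have hd := index_dvd_two hC (m := 4032) (by rw [hcard]) (by norm_num) (by norm_num)
    rcases (Nat.dvd_prime Nat.prime_two).1 hd with h1 | h2
    · exact Or.inl (hsimple h1)
    · exfalso
      haveI : Fact (Nat.Prime 7) := ⟨by norm_num⟩
      obtain ⟨R⟩ : Nonempty (Sylow 7 N) := inferInstance
      have hR := sylow_card R (m := 2880) (by rw [hcard]) (by norm_num)
      haveI : IsCyclic (R : Subgroup N) := isCyclic_of_prime_card hR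
      refine index_ne_two hC hN2 (by norm_num) R (by rw [hR]; norm_num) ?_ h2
      rw [hR, Nat.totient_prime (by norm_num)]
      norm_num
  · have h4 := four_le_card hna e
    have hcN := Classical.Dickson.card_psl K
    rw [← Nat.card_congr e.toEquiv] at hcN
    rcases hK with h9 | ⟨hp, -⟩
    · rw [h9] at hcN
      norm_num at hcN
      have hcard : Nat.card N = 360 := by omega
      have hd := index_dvd_two hC (m := 72) (by rw [hcard]) (by norm_num) (by norm_num)
      rcases (Nat.dvd_prime Nat.prime_two).1 hd with h1 | h2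
      · exact Or.inl (hsimple h1)
      · exact Or.inr ⟨N, hNn, h2, K, i1, i2, h9, ⟨e⟩⟩
    obtain ⟨p, hpK⟩ : ∃ p, Fintype.card K = p := ⟨_, rfl⟩
    have hp5 : 5 ≤ p := by
      rcases h4.lt_or_eq with h | h
      · omega
      · rw [← h] at hp
        norm_num at hp
    rcases (Nat.dvd_prime Nat.prime_two).1 (index_dvd_two_psl hp (by omega) hcen e) with h1 | h2
    · exact Or.inl (hsimple h1)
    · exfalso
      rw [hpK] at hp hcN
      haveI := Fact.mk hp
      haveI : CharP K p := charP_of_card_eq_prime hpK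
      haveI : Fact (Nat.Prime 3) := ⟨Nat.prime_three⟩
      obtain ⟨R⟩ : Nonempty (Sylow 3 N) := inferInstance
      haveI := cyclic_three p (by omega) e R
      have h3N : 3 ∣ Nat.card N := by
        have h3 : 3 ∣ p ^ 2 - 1 := by
          have hm : p % 3 ≠ 0 := fun h => by
            have := (Nat.prime_dvd_prime_iff_eq Nat.prime_three hp).1 (Nat.dvd_of_mod_eq_zero h)
            omega
          have hsq : p ^ 2 % 3 = 1 := by
            rw [Nat.pow_mod]
            rcases (show p % 3 = 1 ∨ p % 3 = 2 by omega) with h | h <;> rw [h]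
          omega
        have hpd : 3 ∣ p * (p ^ 2 - 1) := h3.mul_left p
        rw [← hcN] at hpd
        exact (Nat.prime_three.dvd_mul.1 hpd).resolve_right
          fun h => by have := Nat.le_of_dvd (by norm_num) (h.trans (Nat.gcd_dvd_left _ _)); omega
      obtain ⟨a, ha⟩ := IsPGroup.iff_card.1 R.isPGroup'
      have ha0 : a ≠ 0 := fun e0 => by
        have := R.ne_bot_of_dvd_card h3N
        exact this (Subgroup.card_eq_one.1 (by rw [ha, e0, pow_zero]))
      refine index_ne_two hC hN2 (by norm_num) R (by rw [ha]; exact Nat.one_lt_pow ha0 (by norm_num)) ?_ h2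
      rw [ha, Nat.totient_prime_pow Nat.prime_three (Nat.pos_of_ne_zero ha0), show (3 - 1 : ℕ) = 2 from rfl]
      intro h
      rw [show (4 : ℕ) = 2 * 2 from rfl, Nat.mul_comm (3 ^ (a - 1))] at h
      have := Nat.prime_two.dvd_of_dvd_pow (Nat.dvd_of_mul_dvd_mul_left two_pos h)
      omega

end Cfsg.Agent.Lie.CNTop
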