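import Cfsg.Agent.Lib.Solv.CIT.CN
import Cfsg.Agent.Lib.Solv.CNOddTheorem
import Cfsg.Agent.Lib.Lead.SupersolubleCore
import Cfsg.Agent.S1473

/-!
# The solvable radical of a nonsolvable group with nilpotent centralisers
-/

set_option autoImplicit false
set_option linter.unusedSectionVars false
set_option linter.style.haveILetI false

namespace Cfsg.Agent.Lie.CNTop

open Cfsg Cfsg.Agent.Solv.CITGroups

universe u

variable {G : Type u} [Group G] [Finite G]

theorem mem_C {x s : G} (h : Commute x s) : x ∈ Subgroup.centralizer ({s} : Set G) :=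
  Subgroup.mem_centralizer_singleton_iff.2 h.eq

/-- An element of two-power order fixes a point of a normal two-subgroup. -/
theorem exists_fixed {V : Subgroup G} [V.Normal] (hV : IsPGroup 2 V) (hV1 : V ≠ ⊥) {x : G} {k : ℕ}
    (hx : orderOf x = 2 ^ k) : ∃ z ∈ V, z ≠ 1 ∧ Commute x z := by
  haveI : Fact (Nat.Prime 2) := ⟨Nat.prime_two⟩
  set P := V ⊔ Subgroup.zpowers x with hP
  have hP2 : IsPGroup 2 P := hV.to_sup_of_normal_left
    (IsPGroup.of_card (n := k) (by rw [Nat.card_zpowers, hx]))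
  have hne : V.subgroupOf P ≠ ⊥ := by
    rw [Ne, Subgroup.subgroupOf_eq_bot, disjoint_iff, inf_eq_left.2 (le_sup_left : V ≤ P)]
    exact hV1
  obtain ⟨z, hzV, hzc, hz1⟩ := Lead.SupCore.inf_center_ne_bot' hP2 _ hne
  exact ⟨z, hzV, fun e => hz1 (Subtype.ext e),
    congrArg Subtype.val (Subgroup.mem_center_iff.1 hzc ⟨x, (le_sup_right : Subgroup.zpowers x ≤ P)
      (Subgroup.mem_zpowers x)⟩)⟩

/-- The odd normal part of a nilpotent normal subgroup. -/
theorem odd_card_of_core {C : Subgroup G} [C.Normal] [Group.IsNilpotent C] (hcore : Cfsg.pCore 2 G = ⊥) :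
    Odd (Nat.card C) := by
  haveI : Fact (Nat.Prime 2) := ⟨Nat.prime_two⟩
  by_contra hev
  rw [Nat.not_odd_iff_even, even_iff_two_dvd] at hev
  obtain ⟨P⟩ : Nonempty (Sylow 2 C) := inferInstance
  haveI hn : (P : Subgroup C).Normal :=
    ((Group.isNilpotent_of_finite_tfae (G := C)).out 0 3
      (a := Group.IsNilpotent C)
      (b := ∀ (q : ℕ) (_ : Fact q.Prime) (R : Sylow q C), (R : Subgroup C).Normal)).1 ‹_› 2 ‹_› P
  haveI : (P : Subgroup C).Characteristic := P.characteristic_of_normal hn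
  have h := (Solv.normal_le_pCore (N := (P : Subgroup C).map C.subtype) (P.isPGroup'.map _)).trans hcore.le
  exact P.ne_bot_of_dvd_card hev ((Subgroup.map_eq_bot_iff_of_injective _ C.subtype_injective).1 (le_bot_iff.1 h))

/-- An element of even order has a power of order two outside any subgroup of odd index containing it. -/
theorem odd_index_of_two_mem {C : Subgroup G} [C.Normal] (h : ∀ (x : G) (k : ℕ), orderOf x = 2 ^ k → x ∈ C) :
    Odd (Nat.card (G ⧸ C)) := by
  haveI : Fact (Nat.Prime 2) := ⟨Nat.prime_two⟩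
  by_contra hev
  rw [Nat.not_odd_iff_even, even_iff_two_dvd] at hev
  obtain ⟨q, hq⟩ := exists_prime_orderOf_dvd_card' (G := G ⧸ C) 2 hev
  obtain ⟨g, rfl⟩ := QuotientGroup.mk'_surjective C q
  obtain ⟨a, b, k, he, -, -, hao, hbo⟩ := exists_parts g
  have ha : QuotientGroup.mk' C a = 1 := (QuotientGroup.eq_one_iff a).2 (h a k hao)
  rw [he, map_mul, ha, one_mul] at hq
  have := hbo.of_dvd_nat (orderOf_map_dvd (QuotientGroup.mk' C) b)
  rw [hq] at this
  exact absurd this (by decide)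

/-- A nonsolvable group with nilpotent centralisers has no nontrivial normal abelian subgroup of odd order. -/
theorem no_odd_abelian_normal (hns : ¬ Group.IsSolvable G) (hCN : Cfsg.IsCNGroup G) {E : Subgroup G} [E.Normal]
    (hab : IsMulCommutative E) (hodd : Odd (Nat.card E)) (hE : E ≠ ⊥) : False := by
  classical
  haveI : Fact (Nat.Prime 2) := ⟨Nat.prime_two⟩
  obtain ⟨e₀, he₀, he₀1⟩ : ∃ e ∈ E, e ≠ (1 : G) := by
    by_contra hc
    push Not at hc
    exact hE ((Subgroup.eq_bot_iff_forall E).2 hc)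
  have hcomm : ∀ a ∈ E, ∀ b ∈ E, Commute a b := fun a ha b hb =>
    congrArg Subtype.val (hab.is_comm.comm ⟨a, ha⟩ ⟨b, hb⟩)
  set C := Subgroup.centralizer (E : Set G) with hC
  haveI hCn : C.Normal := Subgroup.normal_centralizer
  have hCnil : Group.IsNilpotent C := Solv.isNilpotent_of_le
    (Subgroup.centralizer_le (Set.singleton_subset_iff.2 he₀)) (hCN e₀ he₀1)
  haveI := hCnil
  have hCsol : Group.IsSolvable C := inferInstance
  by_cases hall : ∀ (x : G) (k : ℕ), orderOf x = 2 ^ k → x ∈ C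
  · exact hns (Solv.isSolvable_of_normal_quotient C hCsol
      (Solv.isSolvable_of_odd_cn (odd_index_of_two_mem hall) (S1473.result hCN C hCsol)))
  push Not at hall
  obtain ⟨x₀, k₀, hx₀, hx₀C⟩ := hall
  have hlast : x₀ ^ (2 ^ k₀) ∈ C := by rw [← hx₀, pow_orderOf_eq_one]; exact one_mem C
  have hex : ∃ j, x₀ ^ (2 ^ j) ∈ C := ⟨k₀, hlast⟩
  obtain ⟨j, hj⟩ : ∃ j, Nat.find hex = j + 1 := by
    refine Nat.exists_eq_succ_of_ne_zero fun e => hx₀C ?_
    have := Nat.find_spec hex
    rwa [e, pow_zero, pow_one] at this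
  set x := x₀ ^ (2 ^ j) with hxdef
  have hxC : x ∉ C := Nat.find_min hex (by omega)
  have hx2 : x * x ∈ C := by
    have := Nat.find_spec hex
    rwa [hj, pow_succ, pow_mul, ← hxdef, pow_two] at this
  obtain ⟨k, hxo⟩ : ∃ k, orderOf x = 2 ^ k := by
    obtain ⟨m, -, hm⟩ := (Nat.dvd_prime_pow Nat.prime_two).1 (hx₀ ▸ orderOf_pow_dvd (x := x₀) (2 ^ j))
    exact ⟨m, hm⟩
  -- whatever commutes with a nontrivial element and with all of the subgroup centralises it
  have key : ∀ s : G, s ≠ 1 → Commute x s → (∀ e ∈ E, Commute e s) → x ∈ C := fun s hs hxs hes =>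
    Subgroup.mem_centralizer_iff.2 fun e he =>
      (nilpotent_odd_two (hCN s hs) (mem_C (hes e he)) (mem_C hxs)
        (hodd.of_dvd_nat (Subgroup.orderOf_dvd_natCard E he)) hxo).eq
  by_cases hcore : Cfsg.pCore 2 G = ⊥
  swap
  · haveI := Solv.pCore_normal (G := G) 2
    obtain ⟨V, hVn, hV1, hVle, -⟩ := Solv.exists_minimal_normal_le (Cfsg.pCore 2 G) hcore
    haveI := hVn
    have hV2 : IsPGroup 2 V := (Solv.pCore_isPGroup 2).to_le hVle
    obtain ⟨z, hzV, hz1, hxz⟩ := exists_fixed hV2 hV1 hxo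
    have hdis : Disjoint E V := by
      obtain ⟨n, hn⟩ := IsPGroup.iff_card.1 hV2
      refine Subgroup.disjoint_of_coprime_natCard ?_
      rw [hn]
      exact (Nat.coprime_two_right.2 hodd).pow_right n
    exact hxC (key z hz1 hxz fun e he => Subgroup.commute_of_normal_of_disjoint E V inferInstance inferInstance hdis e z he hzV)
  have hCodd : Odd (Nat.card C) := odd_card_of_core hcore
  have hsq : x * x = 1 := by
    have h1 := hCodd.of_dvd_nat (Subgroup.orderOf_dvd_natCard C hx2)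
    have h2 : orderOf (x * x) ∣ 2 ^ k := hxo ▸ (pow_two x ▸ orderOf_pow_dvd 2)
    exact orderOf_eq_one_iff.1 (Nat.eq_one_of_dvd_coprimes
      (Nat.Coprime.pow_left k (Nat.coprime_two_left.2 h1)) h2 dvd_rfl)
  have hx1 : x ≠ 1 := fun e => hxC (e ▸ one_mem C)
  have hxinv : x⁻¹ = x := inv_eq_of_mul_eq_one_right hsq
  have hfix : ∀ e ∈ E, x * e * x⁻¹ = e → e = 1 := fun e he hfx => by
    by_contra hne
    exact hxC (key e hne (mul_inv_eq_iff_eq_mul.1 hfx) fun f hf => hcomm f hf e he)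
  let φ : E →* E := MonoidHom.mk' (fun a => ⟨x * a * x⁻¹, (inferInstance : E.Normal).conj_mem (a : G) a.2 x⟩)
    fun a b => Subtype.ext (by simp)
  have hφ : MonoidHom.FixedPointFree φ := fun a ha => Subtype.ext (hfix a a.2 (congrArg Subtype.val ha))
  have hinvo : Function.Involutive φ := fun a => Subtype.ext (by
    show x * (x * a * x⁻¹) * x⁻¹ = a
    rw [show x * (x * (a : G) * x⁻¹) * x⁻¹ = (x * x) * a * (x * x)⁻¹ by group, hsq]
    group)
  have hinvert : ∀ e ∈ E, x * e * x⁻¹ = e⁻¹ := fun e he =>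
    congrArg Subtype.val (congrFun (hφ.coe_eq_inv_of_involutive hinvo) ⟨e, he⟩)
  have htop : ∀ g : G, ∃ c ∈ C, ∃ h ∈ Subgroup.centralizer ({x} : Set G), c * h = g := by
    intro g
    set y := g * x * g⁻¹ with hy
    have hy2 : y * y = 1 := by
      rw [hy, show g * x * g⁻¹ * (g * x * g⁻¹) = g * (x * x) * g⁻¹ by group, hsq, mul_one, mul_inv_cancel]
    have hyinv : ∀ e ∈ E, y * e * y⁻¹ = e⁻¹ := by
      intro e he
      have h1 := hinvert _ ((inferInstance : E.Normal).conj_mem e he g⁻¹)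
      rw [inv_inv] at h1
      have h2 := congrArg (fun w => g * w * g⁻¹) h1
      simp only [mul_inv_rev, inv_inv] at h2
      rw [hy]
      simpa [mul_assoc] using h2
    set d := y * x with hd
    have hdC : d ∈ C := Subgroup.mem_centralizer_iff.2 fun e he => by
      have h1 : d * e * d⁻¹ = e := by
        rw [hd, show y * x * e * (y * x)⁻¹ = y * (x * e * x⁻¹) * y⁻¹ by group, hinvert e he,
          hyinv _ (inv_mem he), inv_inv]
      exact (mul_inv_eq_iff_eq_mul.1 h1).symm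
    obtain ⟨m, hm⟩ := hCodd.of_dvd_nat (Subgroup.orderOf_dvd_natCard C hdC)
    set c := d ^ (m + 1) with hc
    have hcc : c * c = d := by
      rw [hc, ← pow_add, show m + 1 + (m + 1) = (2 * m + 1) + 1 by ring, ← hm, pow_succ, pow_orderOf_eq_one, one_mul]
    have hxd : x * d * x⁻¹ = d⁻¹ := by
      rw [hd, mul_inv_rev, hxinv, inv_eq_of_mul_eq_one_right hy2,
        show x * (y * x) * x = x * y * (x * x) by group, hsq, mul_one]
    have hxc : x * c * x⁻¹ = c⁻¹ := by
      rw [hc]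
      exact conj_pow.symm.trans (by rw [hxd, inv_pow])
    have hcy : c * x * c⁻¹ = y := by
      calc c * x * c⁻¹ = c * (x * c * x⁻¹)⁻¹ * x := by group
        _ = c * c * x := by rw [hxc, inv_inv]
        _ = y * x * x := by rw [hcc]
        _ = y := by rw [mul_assoc, hsq, mul_one]
    refine ⟨c, C.pow_mem hdC _, c⁻¹ * g, mem_C (mul_inv_eq_iff_eq_mul.1 ?_), by group⟩
    calc c⁻¹ * g * x * (c⁻¹ * g)⁻¹ = c⁻¹ * (g * x * g⁻¹) * c := by group
      _ = c⁻¹ * (c * x * c⁻¹) * c := by rw [← hy, hcy]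
      _ = x := by group
  haveI := hCN x hx1
  have hsurj : Function.Surjective ((QuotientGroup.mk' C).comp (Subgroup.centralizer ({x} : Set G)).subtype) := by
    intro q
    obtain ⟨g, rfl⟩ := QuotientGroup.mk'_surjective C q
    obtain ⟨c, hc, h, hh, rfl⟩ := htop g
    refine ⟨⟨h, hh⟩, ?_⟩
    show QuotientGroup.mk' C h = QuotientGroup.mk' C (c * h)
    rw [map_mul, show QuotientGroup.mk' C c = 1 from (QuotientGroup.eq_one_iff c).2 hc, one_mul]
  exact hns (Solv.isSolvable_of_normal_quotient C hCsol (Group.isSolvable_of_surjective hsurj))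

/-- A nontrivial solvable normal subgroup yields a nontrivial two-core. -/
theorem core_ne_bot (hns : ¬ Group.IsSolvable G) (hCN : Cfsg.IsCNGroup G) {K : Subgroup G} [K.Normal]
    (hK : Group.IsSolvable K) (hK1 : K ≠ ⊥) : Cfsg.pCore 2 G ≠ ⊥ := by
  obtain ⟨M, hMn, hM1, hMK, hmin⟩ := Solv.exists_minimal_normal_le K hK1
  haveI := hMn
  obtain ⟨hab, p, hp, -, hMp⟩ :=
    Solv.minimal_normal_elementaryAbelian M (Solv.isSolvable_of_le hMK hK) hM1 hmin
  rcases eq_or_ne p 2 with rfl | hp2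
  · exact fun e => hM1 (le_bot_iff.1 ((Solv.normal_le_pCore hMp).trans e.le))
  · haveI := Fact.mk hp
    obtain ⟨n, hn⟩ := IsPGroup.iff_card.1 hMp
    exact (no_odd_abelian_normal hns hCN hab (by rw [hn]; exact (hp.odd_of_ne_two hp2).pow) hM1).elim

/-- With a nontrivial two-core, centralisers of involutions are two-groups. -/
theorem cit_of_core (hns : ¬ Group.IsSolvable G) (hCN : Cfsg.IsCNGroup G) (hcore : Cfsg.pCore 2 G ≠ ⊥) :
    CIT G := by
  classical
  haveI : Fact (Nat.Prime 2) := ⟨Nat.prime_two⟩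
  haveI := Solv.pCore_normal (G := G) 2
  obtain ⟨V, hVn, hV1, hVle, hVmin⟩ := Solv.exists_minimal_normal_le (Cfsg.pCore 2 G) hcore
  haveI := hVn
  have hV2 : IsPGroup 2 V := (Solv.pCore_isPGroup 2).to_le hVle
  haveI := hV2.isNilpotent
  obtain ⟨habV, -⟩ := Solv.minimal_normal_elementaryAbelian V inferInstance hV1 hVmin
  intro t ht
  refine IsPGroup.iff_orderOf.2 fun w => ?_
  obtain ⟨a, b, k, he, -, hbz, hao, hbo⟩ := exists_parts (w : G)
  obtain ⟨i, hi⟩ := Subgroup.mem_zpowers_iff.1 hbz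
  have hbt : Commute b t := hi ▸ Commute.zpow_left (Subgroup.mem_centralizer_singleton_iff.1 w.2) i
  have ht1 : t ≠ 1 := (orderOf_two_iff.1 ht).2
  obtain ⟨z, hzV, hz1, htz⟩ := exists_fixed hV2 hV1 (x := t) (k := 1) (by rw [ht, pow_one])
  have hVord : ∀ v ∈ V, ∃ j, orderOf v = 2 ^ j := fun v hv => by
    obtain ⟨j, hj⟩ := IsPGroup.iff_orderOf.1 hV2 ⟨v, hv⟩
    exact ⟨j, by rwa [Subgroup.orderOf_mk] at hj⟩
  obtain ⟨jz, hjz⟩ := hVord z hzV
  have hbz' : Commute b z := nilpotent_odd_two (hCN t ht1) (mem_C hbt) (mem_C htz.symm) hbo hjz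
  have hVz : ∀ v ∈ V, Commute v z := fun v hv => congrArg Subtype.val (habV.is_comm.comm ⟨v, hv⟩ ⟨z, hzV⟩)
  set D := Subgroup.centralizer (V : Set G) with hD
  have hbD : b ∈ D := Subgroup.mem_centralizer_iff.2 fun v hv => by
    obtain ⟨j, hj⟩ := hVord v hv
    exact (nilpotent_odd_two (hCN z hz1) (mem_C hbz') (mem_C (hVz v hv)) hbo hj).eq.symm
  suffices hb : b = 1 by exact ⟨k, by rw [← Subgroup.orderOf_coe, he, hb, mul_one, hao]⟩
  by_contra hb1
  obtain ⟨p, hp, hpd⟩ := Nat.exists_prime_and_dvd (fun e => hb1 (orderOf_eq_one_iff.1 e))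
  haveI := Fact.mk hp
  have hp2 : p ≠ 2 := fun e => by
    subst e
    exact Nat.not_even_iff_odd.2 hbo (even_iff_two_dvd.2 hpd)
  haveI hDn : D.Normal := Subgroup.normal_centralizer
  have hDnil : Group.IsNilpotent D :=
    Solv.isNilpotent_of_le (Subgroup.centralizer_le (Set.singleton_subset_iff.2 hzV)) (hCN z hz1)
  obtain ⟨P⟩ : Nonempty (Sylow p D) := inferInstance
  haveI hn : (P : Subgroup D).Normal :=
    ((Group.isNilpotent_of_finite_tfae (G := D)).out 0 3
      (a := Group.IsNilpotent D)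
      (b := ∀ (q : ℕ) (_ : Fact q.Prime) (R : Sylow q D), (R : Subgroup D).Normal)).1 hDnil p ‹_› P
  haveI : (P : Subgroup D).Characteristic := P.characteristic_of_normal hn
  set Q := (P : Subgroup D).map D.subtype with hQ
  have hQ1 : Q ≠ ⊥ := fun e => P.ne_bot_of_dvd_card (hpd.trans (Subgroup.orderOf_dvd_natCard D hbD))
    ((Subgroup.map_eq_bot_iff_of_injective _ D.subtype_injective).1 e)
  obtain ⟨M, hMn, hM1, hMQ, hMmin⟩ := Solv.exists_minimal_normal_le Q hQ1
  haveI := hMn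
  have hMp : IsPGroup p M := (P.isPGroup'.map D.subtype).to_le hMQ
  haveI := hMp.isNilpotent
  obtain ⟨habM, -⟩ := Solv.minimal_normal_elementaryAbelian M inferInstance hM1 hMmin
  obtain ⟨n, hn⟩ := IsPGroup.iff_card.1 hMp
  exact no_odd_abelian_normal hns hCN habM (by rw [hn]; exact (hp.odd_of_ne_two hp2).pow) hM1

end Cfsg.Agent.Lie.CNTop
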