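import Cfsg.Agent.Lib.Lie.FPFTop.Witt

/-!
# Multiplicative characters of a finite field with values in Witt vectors of length two
-/

set_option autoImplicit false
set_option linter.unusedSectionVars false

namespace Cfsg.Agent.Lie.FPFTop

variable {F : Type*} [Field F] [Fintype F] [DecidableEq F] [CharP F 2]

/-- Exponents. -/
abbrev Exps (F : Type*) [Fintype F] : Type := ZMod (Fintype.card F - 1)

instance : NeZero (Fintype.card F - 1) :=
  ⟨by have : 1 < Fintype.card F := Fintype.one_lt_card; omega⟩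

/-- The character attached to an exponent. -/
def ch (μ : Exps F) (x : Fˣ) : WTwo F := WTwo.tau ((x : F) ^ μ.val)

theorem pow_units_mod (x : Fˣ) (k : ℕ) : (x : F) ^ (k % (Fintype.card F - 1)) = (x : F) ^ k := by
  conv_rhs => rw [← Nat.mod_add_div k (Fintype.card F - 1), pow_add, pow_mul,
    FiniteField.pow_card_sub_one_eq_one _ x.ne_zero, one_pow, mul_one]

theorem pow_cast (x : Fˣ) (k : ℕ) : (x : F) ^ (k : Exps F).val = (x : F) ^ k := by
  rw [ZMod.val_natCast, pow_units_mod]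

theorem ch_cast (k : ℕ) (x : Fˣ) : ch (k : Exps F) x = WTwo.tau ((x : F) ^ k) := by rw [ch, pow_cast]

theorem ch_zero (x : Fˣ) : ch (0 : Exps F) x = 1 := by simp [ch]

theorem ch_one (μ : Exps F) : ch μ (1 : Fˣ) = 1 := by simp [ch]

theorem ch_add (μ ν : Exps F) (x : Fˣ) : ch (μ + ν) x = ch μ x * ch ν x := by
  rw [ch, ch, ch, ← map_mul, ← pow_add, ZMod.val_add, pow_units_mod]

theorem ch_mul (μ : Exps F) (x y : Fˣ) : ch μ (x * y) = ch μ x * ch μ y := by
  rw [ch, ch, ch, ← map_mul, Units.val_mul, mul_pow]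

theorem ch_inv (μ : Exps F) (x : Fˣ) : ch μ x⁻¹ = ch (-μ) x := by
  have h1 : ch μ x * ch μ x⁻¹ = 1 := by rw [← ch_mul, mul_inv_cancel, ch_one]
  have h2 : ch μ x * ch (-μ) x = 1 := by rw [← ch_add, add_neg_cancel, ch_zero]
  calc ch μ x⁻¹ = ch μ x⁻¹ * (ch μ x * ch (-μ) x) := by rw [h2, mul_one]
    _ = (ch μ x * ch μ x⁻¹) * ch (-μ) x := by ring
    _ = ch (-μ) x := by rw [h1, one_mul]

theorem ch_nat_mul (k : ℕ) (μ : Exps F) (x : Fˣ) : ch ((k : Exps F) * μ) x = ch μ (x ^ k) := by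
  rw [ch, ch, ZMod.val_mul, ZMod.val_natCast, pow_units_mod, Units.val_pow_eq_pow_val, ← pow_mul, pow_mul, pow_units_mod,
    ← pow_mul]

theorem cast_eq_of_pow {a b : ℕ} (h : ∀ x : Fˣ, (x : F) ^ a = (x : F) ^ b) : (a : Exps F) = b := by
  obtain ⟨g, hg⟩ := IsCyclic.exists_ofOrder_eq_natCard (α := Fˣ)
  rw [Nat.card_eq_fintype_card, Fintype.card_units] at hg
  rw [ZMod.natCast_eq_natCast_iff, ← hg, ← pow_eq_pow_iff_modEq]
  exact Units.ext (by simpa using h g)

/-- The number of exponents is minus one. -/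
theorem card_exps {n : ℕ} (hF : Fintype.card F = 2 ^ n) (hn : 1 < n) :
    ((Fintype.card F - 1 : ℕ) : WTwo F) = -1 := by
  rw [hF, Nat.cast_sub Nat.one_le_two_pow, Nat.cast_pow, show n = 2 + (n - 2) by omega, pow_add, pow_two,
    Nat.cast_ofNat, WTwo.four, zero_mul, Nat.cast_one, zero_sub]

theorem sum_exps {n : ℕ} (hF : Fintype.card F = 2 ^ n) (hn : 1 < n) (y : Fˣ) :
    ∑ μ : Exps F, ch μ y = if y = 1 then -1 else 0 := by
  split_ifs with h
  · subst h
    simp only [ch_one, Finset.sum_const, Finset.card_univ, ZMod.card, nsmul_eq_mul, mul_one]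
    exact card_exps hF hn
  · have h1 : (∑ μ : Exps F, ch μ y) * ch 1 y = ∑ μ : Exps F, ch μ y := by
      rw [Finset.sum_mul]
      simp only [← ch_add]
      exact Fintype.sum_equiv (Equiv.addRight 1) _ _ fun μ => rfl
    have h2 : IsUnit (ch (1 : Exps F) y - 1) := WTwo.isUnit_of_red (by
      rw [map_sub, map_one, ch, WTwo.red_tau, show (1 : Exps F) = ((1 : ℕ) : Exps F) from Nat.cast_one.symm,
        pow_cast, pow_one, sub_ne_zero]
      exact fun e => h (Units.ext e))
    exact h2.mul_left_eq_zero.1 (by rw [mul_sub, h1, mul_one, sub_self])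

theorem sum_units {n : ℕ} (hF : Fintype.card F = 2 ^ n) (hn : 1 < n) (μ : Exps F) :
    ∑ x : Fˣ, ch μ x = if μ = 0 then -1 else 0 := by
  split_ifs with h
  · subst h
    simp only [ch_zero, Finset.sum_const, Finset.card_univ, Fintype.card_units, nsmul_eq_mul, mul_one]
    exact card_exps hF hn
  · obtain ⟨g, hg⟩ := IsCyclic.exists_ofOrder_eq_natCard (α := Fˣ)
    rw [Nat.card_eq_fintype_card, Fintype.card_units] at hg
    have h1 : (∑ x : Fˣ, ch μ x) * ch μ g = ∑ x : Fˣ, ch μ x := by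
      rw [Finset.sum_mul]
      simp only [← ch_mul]
      exact Fintype.sum_equiv (Equiv.mulRight g) _ _ fun x => rfl
    have h2 : IsUnit (ch μ g - 1) := WTwo.isUnit_of_red (by
      rw [map_sub, map_one, ch, WTwo.red_tau, sub_ne_zero]
      intro e
      have hd : orderOf g ∣ μ.val := orderOf_dvd_of_pow_eq_one (Units.ext (by simpa using e))
      rw [hg] at hd
      exact h ((ZMod.val_eq_zero μ).1 (Nat.eq_zero_of_dvd_of_lt hd μ.val_lt)))
    exact h2.mul_left_eq_zero.1 (by rw [mul_sub, h1, mul_one, sub_self])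

end Cfsg.Agent.Lie.FPFTop
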