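import Cfsg.Agent.Lib.Lie.FPFTop.Tensor

/-!
# Fixed-point-free simple modules are Frobenius twists of the natural module
-/

set_option autoImplicit false
set_option linter.unusedSectionVars false

namespace Cfsg.Agent.Lie.FPFTop

universe u v

variable {F : Type*} [Field F] [Fintype F] [DecidableEq F] [CharP F 2] {G : Type u} [Group G]
variable {ι : Type*} [Fintype ι] [DecidableEq ι]

/-- The Frobenius twist of a matrix representation. -/
def twist (M : G →* Matrix ι ι F) (i : ℕ) : G →* Module.End F (ι → F) where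
  toFun g := Matrix.toLin' ((M g).map fun x => x ^ 2 ^ i)
  map_one' := by
    rw [map_one, Matrix.map_one (fun x : F => x ^ 2 ^ i) (zero_pow (by positivity)) (one_pow _)]
    exact Matrix.toLin'_one
  map_mul' g h := by
    rw [show (M (g * h)).map (fun x => x ^ 2 ^ i) =
      ((M g).map fun x => x ^ 2 ^ i) * (M h).map (fun x => x ^ 2 ^ i) from ?_]
    · exact Matrix.toLin'_mul _ _
    ext a b
    simp only [map_mul, Matrix.map_apply, Matrix.mul_apply, frob_sum, mul_pow]

theorem twist_apply (M : G →* Matrix ι ι F) (i : ℕ) (g : G) (x : ι → F) (a : ι) :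
    twist M i g x a = ∑ b, M g a b ^ 2 ^ i * x b := by
  simp [twist, Matrix.mulVec, dotProduct]

theorem twist_single (M : G →* Matrix ι ι F) (i : ℕ) (g : G) (c : ι) (a : ι) :
    twist M i g (Pi.single c 1) a = M g a c ^ 2 ^ i := by
  rw [twist_apply, Finset.sum_eq_single c]
  · simp
  · intro b _ hb; simp [Pi.single_eq_of_ne hb]
  · intro h; exact absurd (Finset.mem_univ c) h

/-- A tensor product with one factor is a twist. -/
noncomputable def singleEquiv {n : ℕ} (i : Fin n) : ((({i} : Finset (Fin n)) → ι) → F) ≃ₗ[F] (ι → F) :=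
  LinearEquiv.funCongrLeft F F (Equiv.funUnique (({i} : Finset (Fin n))) ι).symm

theorem singleEquiv_tens {n : ℕ} (M : G →* Matrix ι ι F) (i : Fin n) (g : G)
    (x : (({i} : Finset (Fin n)) → ι) → F) :
    singleEquiv i (tens M {i} g x) = twist M i g (singleEquiv i x) := by
  funext a
  simp only [singleEquiv, LinearEquiv.funCongrLeft_apply, LinearMap.funLeft_apply, tens_apply, twist_apply]
  refine Fintype.sum_equiv (Equiv.funUnique (({i} : Finset (Fin n))) ι) _ _ fun b => ?_
  rw [Equiv.symm_apply_apply]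
  congr 1
  rw [Fintype.prod_unique]
  rfl

theorem exists_bits : ∀ n s, s < 2 ^ n → ∃ I : Finset (Fin n), ∑ i ∈ I, 2 ^ (i : ℕ) = s := by
  intro n
  induction n with
  | zero => intro s hs; exact ⟨∅, by simp at hs ⊢; omega⟩
  | succ n ih =>
    intro s hs
    by_cases h : s < 2 ^ n
    · obtain ⟨I, hI⟩ := ih s h
      exact ⟨I.map Fin.castSuccEmb, by simpa using hI⟩
    · obtain ⟨I, hI⟩ := ih (s - 2 ^ n) (by rw [pow_succ] at hs; omega)
      refine ⟨insert (Fin.last n) (I.map Fin.castSuccEmb), ?_⟩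
      rw [Finset.sum_insert (by simp [Fin.ne_last_of_lt, Fin.castSucc_ne_last]), Finset.sum_map]
      simp only [Fin.val_last, Fin.coe_castSuccEmb, Fin.val_castSucc, hI]
      omega

variable {R : RankOne F G} {n : ℕ} (A : Natural R ι n)

theorem Natural.h_ne_one (A : Natural R ι n) {x : Fˣ} (hx : x ≠ 1) : R.h x ≠ 1 := by
  intro h
  have h1 := A.colh x A.hi
  rw [h, map_one, Matrix.one_apply_eq, if_pos rfl] at h1
  refine hx ?_
  have h2 : x ^ A.wt = 1 := Units.ext (by rw [Units.val_pow_eq_pow_val, ← h1]; rfl)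
  have hc : Nat.card Fˣ = 2 ^ n - 1 := by
    rw [Nat.card_eq_fintype_card, Fintype.card_units, A.card]
  exact orderOf_eq_one_iff.1 (Nat.eq_one_of_dvd_coprimes A.cop (orderOf_dvd_of_pow_eq_one h2)
    (hc ▸ orderOf_dvd_natCard x))

theorem Natural.h_odd (A : Natural R ι n) (hn : 0 < n) (x : Fˣ) : Odd (orderOf (R.h x)) := by
  refine Odd.of_dvd_nat ?_ ((orderOf_map_dvd R.h x).trans (orderOf_dvd_natCard x))
  rw [Nat.card_eq_fintype_card, Fintype.card_units, A.card]
  exact Nat.Even.sub_odd Nat.one_le_two_pow ((Nat.even_pow).2 ⟨even_two, hn.ne'⟩) odd_one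

theorem Natural.exists_wt (A : Natural R ι n) (μ : ℕ) : ∃ s < 2 ^ n, ∀ x : Fˣ, (x : F) ^ μ = (x : F) ^ (A.wt * s) := by
  have hc : Nat.card Fˣ = 2 ^ n - 1 := by
    rw [Nat.card_eq_fintype_card, Fintype.card_units, A.card]
  obtain ⟨g, hg⟩ := IsCyclic.exists_generator (α := Fˣ)
  have hcop : (Nat.card Fˣ).Coprime A.wt := hc ▸ A.cop.symm
  have hgen : g ^ μ ∈ Submonoid.powers (g ^ A.wt) := by
    obtain ⟨z, hz⟩ := (powCoprime hcop).surjective (g ^ μ)
    obtain ⟨k, hk⟩ := (mem_powers_iff_mem_zpowers (x := g) (y := z)).2 (hg z)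
    refine ⟨k, ?_⟩
    rw [← hz, ← hk]
    simp only [powCoprime_apply]
    rw [← pow_mul, ← pow_mul, mul_comm]
  rw [mem_powers_iff_mem_range_orderOf] at hgen
  obtain ⟨s, hs, hgs⟩ := Finset.mem_image.1 hgen
  refine ⟨s, ?_, fun x => ?_⟩
  · have := orderOf_dvd_natCard (g ^ A.wt)
    have h2 := Nat.le_of_dvd Nat.card_pos this
    have := Finset.mem_range.1 hs
    omega
  · obtain ⟨k, rfl⟩ := (mem_powers_iff_mem_zpowers (x := g) (y := x)).2 (hg x)
    rw [← Units.val_pow_eq_pow_val, ← Units.val_pow_eq_pow_val, ← pow_mul, ← pow_mul]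
    rw [show k * (A.wt * s) = A.wt * s * k by ring, show k * μ = μ * k by ring, pow_mul g μ, ← hgs]
    simp only [← pow_mul]

variable {V : Type v} [AddCommGroup V] [Module F V] (ρ : G →* Module.End F V)

/-- A simple module without fixed points is a twist of the natural module. -/
theorem Natural.classify [Finite G] [Finite V] (hn : 1 < n) (hs : Simple ρ) (hf : FPF ρ) :
    ∃ (i : Fin n) (e : V ≃ₗ[F] (ι → F)), ∀ g x, e (ρ g x) = twist A.M i g (e x) := by
  haveI := hs.1
  obtain ⟨v, μ, hv, hw, hfix⟩ := exists_fixed_wt R.h ρ R.U R.two fun x u hu => R.norm' x hu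
  have hc : Nat.card Fˣ = 2 ^ n - 1 := by
    rw [Nat.card_eq_fintype_card, Fintype.card_units, A.card]
  have hq : 2 ^ 2 ≤ 2 ^ n := Nat.pow_le_pow_right (by norm_num) hn
  have hμ : ∃ x : Fˣ, (x : F) ^ (2 * μ) ≠ 1 := by
    by_contra hall
    push Not at hall
    haveI : Nontrivial Fˣ := Finite.one_lt_card_iff_nontrivial.1 (by omega)
    obtain ⟨x, hx⟩ := exists_ne (1 : Fˣ)
    have h1 : (x : F) ^ μ = 1 := by
      have := hall x
      rw [mul_comm, pow_mul] at this
      exact (sq_eq_one_iff.1 this).elim id fun h => h.trans (CharTwo.neg_eq 1)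
    refine hv (hf _ (A.h_odd (by omega) x) (A.h_ne_one hx) v ?_)
    rw [hw x, h1, one_smul]
  obtain ⟨s, hs2, hsμ⟩ := A.exists_wt μ
  obtain ⟨I, hI⟩ := exists_bits n s hs2
  have hw' : IsWt R.h (tens A.M I) μ (A.top I) := fun x => by
    rw [A.top_wt I x, hI, hsμ]
  obtain ⟨e, he, -⟩ := exists_equiv R ρ (tens A.M I) hs (A.simple I) hμ hv hfix hw (A.top_ne I)
    (fun y hy => A.top_fix I hy) hw'
  have hI1 : I.card = 1 := by
    rcases Nat.lt_or_ge 1 I.card with h | h
    · refine absurd (fun g hg hg1 z hz => ?_) (A.not_fpf I h)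
      have := hf g hg hg1 (e.symm z) (e.injective (by rw [he, e.apply_symm_apply, hz]))
      simpa using congrArg e this
    · rcases Nat.eq_zero_or_pos I.card with h0 | h0
      · obtain ⟨x, hx⟩ := hμ
        rw [Finset.card_eq_zero.1 h0, Finset.sum_empty] at hI
        exact absurd (by rw [mul_comm, pow_mul, hsμ, ← hI, mul_zero, pow_zero, one_pow]) hx
      · omega
  obtain ⟨i, rfl⟩ := Finset.card_eq_one.1 hI1
  exact ⟨i, e.trans (singleEquiv i), fun g x => by
    simp only [LinearEquiv.trans_apply, he, singleEquiv_tens]⟩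

end Cfsg.Agent.Lie.FPFTop
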