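import Cfsg.Agent.Lib.Lie.FPFTop.Additive
import Cfsg.Agent.Lib.Solv.CIT.AbelianCore

/-!
# A two-group without fixed points under a rank-one top is elementary abelian
-/

set_option autoImplicit false
set_option linter.unusedSectionVars false
set_option linter.style.haveILetI false

namespace Cfsg.Agent.Lie.FPFTop

open scoped commutatorElement

universe u v

/-- Odd-order elements lift to odd-order elements. -/
theorem exists_odd_lift {A : Type*} {B : Type*} [Group A] [Group B] [Finite A] (f : A →* B)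
    (hf : Function.Surjective f) {s : B} (hs : Odd (orderOf s)) : ∃ y : A, f y = s ∧ Odd (orderOf y) := by
  obtain ⟨g, rfl⟩ := hf s
  set a := 2 ^ (orderOf g).factorization 2 with ha
  have hco : a.Coprime (orderOf (f g)) := Nat.Coprime.pow_left _ (Nat.coprime_two_left.2 hs)
  obtain ⟨j, hj⟩ := exists_pow_eq_self_of_coprime hco
  refine ⟨(g ^ a) ^ j, by rw [map_pow, map_pow, hj], ?_⟩
  have hm : Odd (orderOf g / a) :=
    Nat.not_even_iff_odd.1 fun h => Nat.not_dvd_ordCompl Nat.prime_two (orderOf_pos g).ne' (even_iff_two_dvd.1 h)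
  refine hm.of_dvd_nat (orderOf_dvd_of_pow_eq_one ?_)
  rw [← pow_mul, ← pow_mul, show a * (j * (orderOf g / a)) = a * (orderOf g / a) * j by ring,
    Nat.mul_div_cancel' (Nat.ordProj_dvd _ _), pow_mul, pow_orderOf_eq_one, one_pow]

variable {F : Type*} [Field F] [Fintype F] [DecidableEq F] [CharP F 2] {G : Type u} [Group G] [Finite G]
variable {R : RankOne F G} {ι : Type*} [Fintype ι] [DecidableEq ι] {n : ℕ}

/-- The core is elementary abelian. -/
theorem Frame.elementary_core (A : Frame R ι n) : ∀ (c : ℕ) (H : Type v) [Group H] [Finite H], Nat.card H = c →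
    ∀ (D : Subgroup H) [D.Normal] (π : H →* G), Function.Surjective π → π.ker = D → IsPGroup 2 D →
      (∀ y : H, Odd (orderOf y) → y ≠ 1 → ∀ d ∈ D, Commute y d → d = 1) →
      (∀ d ∈ D, ∀ e ∈ D, d * e = e * d) ∧ ∀ d ∈ D, d * d = 1 := by
  intro c
  induction c using Nat.strong_induction_on with
  | _ c ih =>
  intro H _ _ hc D _ π hπ hker hD hfix
  classical
  haveI : Fact (Nat.Prime 2) := ⟨Nat.prime_two⟩
  by_cases hD1 : D = ⊥
  · subst hD1
    refine ⟨fun d hd e he => ?_, fun d hd => ?_⟩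
    · rw [Subgroup.mem_bot.1 hd, Subgroup.mem_bot.1 he]
    · rw [Subgroup.mem_bot.1 hd, one_mul]
  haveI : Nontrivial D := (Subgroup.nontrivial_iff_ne_bot D).2 hD1
  haveI := hD.center_nontrivial
  set Zg := (Subgroup.center D).map D.subtype with hZg
  haveI : Zg.Normal := by rw [hZg]; infer_instance
  have hZ1 : Zg ≠ ⊥ := fun e => (Subgroup.nontrivial_iff_ne_bot _).1 (inferInstance : Nontrivial (Subgroup.center D))
    ((Subgroup.map_eq_bot_iff_of_injective _ D.subtype_injective).1 e)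
  obtain ⟨N, hNn, hN1, hNZ, hNmin⟩ := Solv.exists_minimal_normal_le Zg hZ1
  haveI := hNn
  have hND : N ≤ D := hNZ.trans (Subgroup.map_subtype_le _)
  have hNc : ∀ x ∈ N, ∀ d ∈ D, d * x = x * d := fun x hx d hd => by
    obtain ⟨z, hz, rfl⟩ := hNZ hx
    exact congrArg Subtype.val (Subgroup.mem_center_iff.1 hz ⟨d, hd⟩)
  have hN2 : IsPGroup 2 N := hD.to_le hND
  have hNsq : ∀ x ∈ N, x * x = 1 := by
    haveI := hN2.isNilpotent
    obtain ⟨-, p, hp, hex, hNp⟩ := Solv.minimal_normal_elementaryAbelian N inferInstance hN1 hNmin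
    obtain ⟨t, ht, hto⟩ := Solv.CITGroups.exists_invol_mem hN2 hN1
    have h2p : p = 2 := by
      have h := hex t ht
      rw [← orderOf_dvd_iff_pow_eq_one, hto] at h
      exact ((Nat.prime_dvd_prime_iff_eq Nat.prime_two hp).1 h).symm
    subst h2p
    exact fun x hx => by rw [← pow_two]; exact hex x hx
  have hcj : ∀ x : H, ∀ w ∈ D, x * w * x⁻¹ ∈ D := fun x w hw => (inferInstance : D.Normal).conj_mem w hw x
  -- the smaller group
  have hNker : N ≤ π.ker := hker.symm ▸ hND
  let π' : H ⧸ N →* G := QuotientGroup.lift N π hNker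
  have hπ'k : π'.ker = D.map (QuotientGroup.mk' N) := by
    rw [← hker]
    exact QuotientGroup.ker_lift N π hNker
  haveI : (D.map (QuotientGroup.mk' N)).Normal :=
    (inferInstance : D.Normal).map _ (QuotientGroup.mk'_surjective N)
  obtain ⟨hab, hsq⟩ := ih (Nat.card (H ⧸ N)) (hc ▸ Solv.card_quotient_lt N hN1) (H ⧸ N) rfl
    (D.map (QuotientGroup.mk' N)) π'
    (fun s => by obtain ⟨x, rfl⟩ := hπ s; exact ⟨QuotientGroup.mk' N x, rfl⟩) hπ'k (hD.map _) (by
    intro y hy hy1 d hd hyd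
    obtain ⟨w, hw, rfl⟩ := hd
    obtain ⟨x, rfl, hx⟩ := exists_odd_lift (QuotientGroup.mk' N) (QuotientGroup.mk'_surjective N) hy
    have hx1 : x ≠ 1 := fun e => hy1 (by rw [e, map_one])
    have hinj : ∀ a ∈ D, ∀ b ∈ D, x * a * x⁻¹ * a⁻¹ = x * b * x⁻¹ * b⁻¹ → a = b := by
      intro a ha b hb e
      refine (inv_mul_eq_one.1 (hfix x hx hx1 _ (mul_mem (inv_mem hb) ha) (mul_inv_eq_iff_eq_mul.1 ?_))).symm
      calc x * (b⁻¹ * a) * x⁻¹ = (x * b * x⁻¹)⁻¹ * (x * a * x⁻¹ * a⁻¹) * a := by group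
        _ = b⁻¹ * a := by rw [e]; group
    let f : N → N := fun u => ⟨x * u * x⁻¹ * (u : H)⁻¹, mul_mem (hNn.conj_mem _ u.2 x) (inv_mem u.2)⟩
    have hf : Function.Injective f := fun a b e =>
      Subtype.ext (hinj a (hND a.2) b (hND b.2) (congrArg Subtype.val e))
    have hm : x * w * x⁻¹ * w⁻¹ ∈ N := by
      rw [← QuotientGroup.eq_one_iff]
      show QuotientGroup.mk' N (x * w * x⁻¹ * w⁻¹) = 1
      rw [map_mul, map_mul, map_mul, map_inv, map_inv, hyd.eq, mul_inv_cancel_right, mul_inv_cancel]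
    obtain ⟨u, hu⟩ := Finite.injective_iff_surjective.1 hf ⟨_, hm⟩
    exact (QuotientGroup.eq_one_iff w).2 (hinj w hw u (hND u.2) (congrArg Subtype.val hu).symm ▸ u.2))
  have hB : ∀ v ∈ D, ∀ w ∈ D, ⁅v, w⁆ ∈ N := fun v hv w hw => by
    rw [← QuotientGroup.eq_one_iff]
    show QuotientGroup.mk' N ⁅v, w⁆ = 1
    rw [map_commutatorElement, commutatorElement_eq_one_iff_mul_comm]
    exact hab _ ⟨v, hv, rfl⟩ _ ⟨w, hw, rfl⟩
  have hsqN : ∀ d ∈ D, d * d ∈ N := fun d hd => by
    rw [← QuotientGroup.eq_one_iff]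
    exact hsq _ ⟨d, hd, rfl⟩
  -- the action of the top on the sections
  have hmk : ∀ x : H, x ∈ D → π x = 1 := fun x hx => by rw [← MonoidHom.mem_ker, hker]; exact hx
  choose lift hlift using hπ
  have hval : ∀ s t : G, (lift (s * t))⁻¹ * (lift s * lift t) ∈ D := fun s t => by
    rw [← hker, MonoidHom.mem_ker, map_mul, map_inv, map_mul, hlift, hlift, hlift, inv_mul_cancel]
  have hone : lift 1 ∈ D := by rw [← hker, MonoidHom.mem_ker, hlift]
  have hodd : ∀ s : G, Odd (orderOf s) → s ≠ 1 → ∃ y : H, Odd (orderOf y) ∧ y ≠ 1 ∧ (lift s)⁻¹ * y ∈ D := by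
    intro s hs hs1
    obtain ⟨y, hy, hyo⟩ := exists_odd_lift π (fun s => ⟨lift s, hlift s⟩) hs
    refine ⟨y, hyo, fun e => hs1 (by rw [← hy, e, map_one]), ?_⟩
    rw [← hker, MonoidHom.mem_ker, map_mul, map_inv, hlift, hy, inv_mul_cancel]
  -- the section `D / N`
  let D₁ : Subgroup (H ⧸ N) := D.map (QuotientGroup.mk' N)
  letI : IsMulCommutative D₁ := ⟨⟨fun a b => Subtype.ext (hab a a.2 b b.2)⟩⟩
  letI : IsMulCommutative N := ⟨⟨fun a b => Subtype.ext (hNc b b.2 a (hND a.2))⟩⟩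
  letI : CommGroup D₁ := IsMulCommutative.instCommGroup
  letI : CommGroup N := IsMulCommutative.instCommGroup
  letI : Module (ZMod 2) (Additive D₁) := AddCommGroup.zmodModule fun a =>
    congrArg Additive.ofMul (show (Additive.toMul a) ^ 2 = 1 from Subtype.ext (by
      rw [SubgroupClass.coe_pow, pow_two]; exact hsq _ (Additive.toMul a).2))
  letI : Module (ZMod 2) (Additive N) := AddCommGroup.zmodModule fun a =>
    congrArg Additive.ofMul (show (Additive.toMul a) ^ 2 = 1 from Subtype.ext (by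
      rw [SubgroupClass.coe_pow, pow_two]; exact hNsq _ (Additive.toMul a).2))
  have hconjN : ∀ d ∈ D, ∀ x ∈ N, d * x * d⁻¹ = x := fun d hd x hx => by
    rw [hNc x hx d hd, mul_inv_cancel_right]
  have hconjD : ∀ d ∈ D, ∀ a ∈ D₁, QuotientGroup.mk' N d * a * (QuotientGroup.mk' N d)⁻¹ = a := fun d hd a ha => by
    rw [hab _ ⟨d, hd, rfl⟩ _ ha, mul_inv_cancel_right]
  haveI : D₁.Normal := ‹(D.map (QuotientGroup.mk' N)).Normal›
  let γ : G →* Module.End (ZMod 2) (Additive N) :=
    { toFun := fun s => (MonoidHom.toAdditive (MulAut.conjNormal (lift s) : MulAut N).toMonoidHom).toZModLinearMap 2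
      map_one' := by
        refine LinearMap.ext fun a => Additive.toMul.injective (Subtype.ext ?_)
        show lift 1 * ((Additive.toMul a : N) : H) * (lift 1)⁻¹ = _
        exact hconjN _ hone _ (Additive.toMul a).2
      map_mul' := fun s t => by
        refine LinearMap.ext fun a => Additive.toMul.injective (Subtype.ext ?_)
        show lift (s * t) * ((Additive.toMul a : N) : H) * (lift (s * t))⁻¹ =
          lift s * (lift t * ((Additive.toMul a : N) : H) * (lift t)⁻¹) * (lift s)⁻¹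
        conv_rhs => rw [show lift s * (lift t * ((Additive.toMul a : N) : H) * (lift t)⁻¹) * (lift s)⁻¹ =
          lift (s * t) * (((lift (s * t))⁻¹ * (lift s * lift t)) * ((Additive.toMul a : N) : H) *
            ((lift (s * t))⁻¹ * (lift s * lift t))⁻¹) * (lift (s * t))⁻¹ by group]
        rw [hconjN _ (hval s t) _ (Additive.toMul a).2] }
  let α : G →* Module.End (ZMod 2) (Additive D₁) :=
    { toFun := fun s => (MonoidHom.toAdditive
        (MulAut.conjNormal (QuotientGroup.mk' N (lift s)) : MulAut D₁).toMonoidHom).toZModLinearMap 2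
      map_one' := by
        refine LinearMap.ext fun a => Additive.toMul.injective (Subtype.ext ?_)
        show QuotientGroup.mk' N (lift 1) * ((Additive.toMul a : D₁) : H ⧸ N) * _⁻¹ = _
        exact hconjD _ hone _ (Additive.toMul a).2
      map_mul' := fun s t => by
        refine LinearMap.ext fun a => Additive.toMul.injective (Subtype.ext ?_)
        show QuotientGroup.mk' N (lift (s * t)) * ((Additive.toMul a : D₁) : H ⧸ N) *
            (QuotientGroup.mk' N (lift (s * t)))⁻¹ =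
          QuotientGroup.mk' N (lift s) * (QuotientGroup.mk' N (lift t) * ((Additive.toMul a : D₁) : H ⧸ N) *
            (QuotientGroup.mk' N (lift t))⁻¹) * (QuotientGroup.mk' N (lift s))⁻¹
        have h := hconjD _ (hval s t) _ (Additive.toMul a).2
        rw [map_mul, map_mul, map_inv] at h
        conv_lhs => rw [← h]
        group }
  have hγ : FPF γ := by
    intro s hs hs1 a ha
    obtain ⟨y, hyo, hy1, hyD⟩ := hodd s hs hs1
    have e : lift s * ((Additive.toMul a : N) : H) * (lift s)⁻¹ = ((Additive.toMul a : N) : H) :=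
      congrArg (fun b : Additive N => ((Additive.toMul b : N) : H)) ha
    refine Additive.toMul.injective (Subtype.ext (hfix y hyo hy1 _ (hND (Additive.toMul a).2)
      (mul_inv_eq_iff_eq_mul.1 ?_)))
    calc y * ((Additive.toMul a : N) : H) * y⁻¹
        = lift s * (((lift s)⁻¹ * y) * ((Additive.toMul a : N) : H) * ((lift s)⁻¹ * y)⁻¹) * (lift s)⁻¹ := by group
      _ = _ := by rw [hconjN _ hyD _ (Additive.toMul a).2, e]
  have hα : FPF α := by
    intro s hs hs1 a ha
    obtain ⟨y, hyo, hy1, hyD⟩ := hodd s hs hs1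
    obtain ⟨w, hw, hwa⟩ := (Additive.toMul a).2
    have e : QuotientGroup.mk' N (lift s) * QuotientGroup.mk' N w * (QuotientGroup.mk' N (lift s))⁻¹ =
        QuotientGroup.mk' N w := by
      rw [hwa]
      exact congrArg (fun b : Additive D₁ => ((Additive.toMul b : D₁) : H ⧸ N)) ha
    have h1 : QuotientGroup.mk' N (y * w * y⁻¹) = QuotientGroup.mk' N w := by
      conv_rhs => rw [← e, ← hconjD _ hyD _ ⟨w, hw, rfl⟩]
      simp only [map_mul, map_inv]
      group
    have hinj : ∀ u ∈ D, ∀ b ∈ D, y * u * y⁻¹ * u⁻¹ = y * b * y⁻¹ * b⁻¹ → u = b := by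
      intro u hu b hb e
      refine (inv_mul_eq_one.1 (hfix y hyo hy1 _ (mul_mem (inv_mem hb) hu) (mul_inv_eq_iff_eq_mul.1 ?_))).symm
      calc y * (b⁻¹ * u) * y⁻¹ = (y * b * y⁻¹)⁻¹ * (y * u * y⁻¹ * u⁻¹) * u := by group
        _ = b⁻¹ * u := by rw [e]; group
    let f : N → N := fun u => ⟨y * u * y⁻¹ * (u : H)⁻¹, mul_mem (hNn.conj_mem _ u.2 y) (inv_mem u.2)⟩
    have hf : Function.Injective f := fun u b e =>
      Subtype.ext (hinj u (hND u.2) b (hND b.2) (congrArg Subtype.val e))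
    have hm : y * w * y⁻¹ * w⁻¹ ∈ N := by
      rw [← QuotientGroup.eq_one_iff]
      show QuotientGroup.mk' N (y * w * y⁻¹ * w⁻¹) = 1
      rw [map_mul, h1, map_inv, mul_inv_cancel]
    obtain ⟨u, hu⟩ := Finite.injective_iff_surjective.1 hf ⟨_, hm⟩
    have hwN : w ∈ N := hinj w hw u (hND u.2) (congrArg Subtype.val hu).symm ▸ u.2
    refine Additive.toMul.injective (Subtype.ext ?_)
    show ((Additive.toMul a : D₁) : H ⧸ N) = 1
    rw [← hwa]
    exact (QuotientGroup.eq_one_iff w).2 hwN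
  -- the commutator
  have hmulr : ∀ v ∈ D, ∀ w ∈ D, ∀ w' ∈ D, ⁅v, w * w'⁆ = ⁅v, w⁆ * ⁅v, w'⁆ := fun v hv w hw w' hw' => by
    rw [show ⁅v, w * w'⁆ = ⁅v, w⁆ * (w * ⁅v, w'⁆ * w⁻¹) by simp only [commutatorElement_def]; group,
      hconjN w hw _ (hB v hv w' hw')]
  have hmull : ∀ v ∈ D, ∀ v' ∈ D, ∀ w ∈ D, ⁅v * v', w⁆ = ⁅v, w⁆ * ⁅v', w⁆ := fun v hv v' hv' w hw => by
    rw [show ⁅v * v', w⁆ = (v * ⁅v', w⁆ * v⁻¹) * ⁅v, w⁆ by simp only [commutatorElement_def]; group,
      hconjN v hv _ (hB v' hv' w hw), hNc _ (hB v hv w hw) _ (hND (hB v' hv' w hw))]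
  have hN1' : ∀ x ∈ N, ∀ v ∈ D, ⁅x, v⁆ = 1 ∧ ⁅v, x⁆ = 1 := fun x hx v hv =>
    ⟨commutatorElement_eq_one_iff_mul_comm.2 (hNc x hx v hv).symm,
      commutatorElement_eq_one_iff_mul_comm.2 (hNc x hx v hv)⟩
  choose sec hsecD hsec using fun a : D₁ => (Subgroup.mem_map.1 a.2)
  have hsecmul : ∀ a b : D₁, (sec a * sec b)⁻¹ * sec (a * b) ∈ N := fun a b => by
    rw [← QuotientGroup.eq_one_iff]
    show QuotientGroup.mk' N _ = 1
    rw [map_mul, map_inv, map_mul, hsec, hsec, hsec, Subgroup.coe_mul, inv_mul_cancel]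
  have hdrop : ∀ v ∈ D, ∀ v' ∈ D, v⁻¹ * v' ∈ N → ∀ w ∈ D, ⁅v', w⁆ = ⁅v, w⁆ ∧ ⁅w, v'⁆ = ⁅w, v⁆ := by
    intro v hv v' hv' hvv w hw
    have e : v' = v * (v⁻¹ * v') := by group
    refine ⟨?_, ?_⟩
    · rw [e, hmull v hv _ (hND hvv) w hw, (hN1' _ hvv w hw).1, mul_one]
    · rw [e, hmulr w hw v hv _ (hND hvv), (hN1' _ hvv w hw).2, mul_one]
  let B₀ : Additive D₁ →+ Additive D₁ →+ Additive N := AddMonoidHom.mk'
    (fun a => AddMonoidHom.mk' (fun b => Additive.ofMul (⟨⁅sec a.toMul, sec b.toMul⁆,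
        hB _ (hsecD _) _ (hsecD _)⟩ : N)) fun b b' => Additive.toMul.injective (Subtype.ext (by
      show ⁅sec a.toMul, sec (b.toMul * b'.toMul)⁆ = ⁅sec a.toMul, sec b.toMul⁆ * ⁅sec a.toMul, sec b'.toMul⁆
      rw [(hdrop _ (mul_mem (hsecD _) (hsecD _)) _ (hsecD _) (hsecmul _ _) _ (hsecD _)).2,
        hmulr _ (hsecD _) _ (hsecD _) _ (hsecD _)])))
    fun a a' => AddMonoidHom.ext fun b => Additive.toMul.injective (Subtype.ext (by
      show ⁅sec (a.toMul * a'.toMul), sec b.toMul⁆ = ⁅sec a.toMul, sec b.toMul⁆ * ⁅sec a'.toMul, sec b.toMul⁆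
      rw [(hdrop _ (mul_mem (hsecD _) (hsecD _)) _ (hsecD _) (hsecmul _ _) _ (hsecD _)).1,
        hmull _ (hsecD _) _ (hsecD _) _ (hsecD _)]))
  let B : Additive D₁ →ₗ[ZMod 2] Additive D₁ →ₗ[ZMod 2] Additive N :=
    (AddMonoidHom.mk' (fun a => (B₀ a).toZModLinearMap 2) fun a a' => by
      ext b; simp).toZModLinearMap 2
  have hBeq : ∀ s a b, B (α s a) (α s b) = γ s (B a b) := by
    intro s a b
    refine Additive.toMul.injective (Subtype.ext ?_)
    show ⁅sec (α s a).toMul, sec (α s b).toMul⁆ =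
      lift s * ⁅sec a.toMul, sec b.toMul⁆ * (lift s)⁻¹
    have hs' : ∀ a : Additive D₁, (lift s * sec a.toMul * (lift s)⁻¹)⁻¹ * sec (α s a).toMul ∈ N := fun a => by
      rw [← QuotientGroup.eq_one_iff]
      show QuotientGroup.mk' N _ = 1
      rw [map_mul, map_inv, map_mul, map_mul, map_inv, hsec, hsec]
      exact inv_mul_cancel _
    rw [(hdrop _ (hcj _ _ (hsecD _)) _ (hsecD _) (hs' a) _ (hsecD _)).1,
      (hdrop _ (hcj _ _ (hsecD _)) _ (hsecD _) (hs' b) _ (hcj _ _ (hsecD _))).2]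
    simp only [commutatorElement_def]
    group
  have hB0 := A.bilinear_zero hα hγ B hBeq
  have hcomm : ∀ v ∈ D, ∀ w ∈ D, v * w = w * v := by
    intro v hv w hw
    rw [← commutatorElement_eq_one_iff_mul_comm]
    have h := DFunLike.congr_fun (DFunLike.congr_fun hB0 (Additive.ofMul (⟨_, v, hv, rfl⟩ : D₁)))
      (Additive.ofMul (⟨_, w, hw, rfl⟩ : D₁))
    have hs' : ∀ (u : H) (hu : u ∈ D), u⁻¹ * sec ⟨_, u, hu, rfl⟩ ∈ N := fun u hu => by
      rw [← QuotientGroup.eq_one_iff]
      show QuotientGroup.mk' N _ = 1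
      rw [map_mul, map_inv, hsec]
      exact inv_mul_cancel _
    rw [← (hdrop v hv _ (hsecD _) (hs' v hv) w hw).1, ← (hdrop w hw _ (hsecD _) (hs' w hw) _ (hsecD _)).2]
    exact congrArg (fun x : Additive N => ((Additive.toMul x : N) : H)) h
  refine ⟨hcomm, fun d hd => ?_⟩
  letI : IsMulCommutative D := ⟨⟨fun a b => Subtype.ext (hcomm a a.2 b b.2)⟩⟩
  letI : CommGroup D := IsMulCommutative.instCommGroup
  have hconj : ∀ d ∈ D, ∀ x ∈ D, d * x * d⁻¹ = x := fun d hd x hx => by
    rw [hcomm d hd x hx, mul_inv_cancel_right]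
  let δ : G →* AddMonoid.End (Additive D) :=
    { toFun := fun s => MonoidHom.toAdditive (MulAut.conjNormal (lift s) : MulAut D).toMonoidHom
      map_one' := by
        refine AddMonoidHom.ext fun a => Additive.toMul.injective (Subtype.ext ?_)
        show lift 1 * ((Additive.toMul a : D) : H) * (lift 1)⁻¹ = _
        exact hconj _ hone _ (Additive.toMul a).2
      map_mul' := fun s t => by
        refine AddMonoidHom.ext fun a => Additive.toMul.injective (Subtype.ext ?_)
        show lift (s * t) * ((Additive.toMul a : D) : H) * (lift (s * t))⁻¹ =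
          lift s * (lift t * ((Additive.toMul a : D) : H) * (lift t)⁻¹) * (lift s)⁻¹
        conv_rhs => rw [show lift s * (lift t * ((Additive.toMul a : D) : H) * (lift t)⁻¹) * (lift s)⁻¹ =
          lift (s * t) * (((lift (s * t))⁻¹ * (lift s * lift t)) * ((Additive.toMul a : D) : H) *
            ((lift (s * t))⁻¹ * (lift s * lift t))⁻¹) * (lift (s * t))⁻¹ by group]
        rw [hconj _ (hval s t) _ (Additive.toMul a).2] }
  have h := A.exponent_two δ (fun s hs hs1 a ha => by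
      obtain ⟨y, hyo, hy1, hyD⟩ := hodd s hs hs1
      have e : lift s * ((Additive.toMul a : D) : H) * (lift s)⁻¹ = ((Additive.toMul a : D) : H) :=
        congrArg (fun b : Additive D => ((Additive.toMul b : D) : H)) ha
      refine Additive.toMul.injective (Subtype.ext (hfix y hyo hy1 _ (Additive.toMul a).2
        (mul_inv_eq_iff_eq_mul.1 ?_)))
      calc y * ((Additive.toMul a : D) : H) * y⁻¹
          = lift s * (((lift s)⁻¹ * y) * ((Additive.toMul a : D) : H) * ((lift s)⁻¹ * y)⁻¹) * (lift s)⁻¹ := by group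
        _ = _ := by rw [hconj _ hyD _ (Additive.toMul a).2, e])
    (fun a => Additive.toMul.injective (Subtype.ext (show ((Additive.toMul a : D) : H) ^ 4 = 1 by
      rw [show (4 : ℕ) = 2 * 2 from rfl, pow_mul, pow_two (((Additive.toMul a : D) : H)), pow_two]
      exact hNsq _ (hsqN _ (Additive.toMul a).2))))
    (Additive.ofMul (⟨d, hd⟩ : D))
  rw [← pow_two]
  exact congrArg (fun x : Additive D => ((Additive.toMul x : D) : H)) h

end Cfsg.Agent.Lie.FPFTop
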