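import Cfsg.Agent.Lib.Lie.FPFTop.TriZero
import Cfsg.Agent.Lib.Lie.FPFTop.Chars

/-!
# Modules without fixed points over Witt vectors of length two have exponent two
-/

set_option autoImplicit false
set_option linter.unusedSectionVars false

namespace Cfsg.Agent.Lie.FPFTop

universe u v

variable {F : Type*} [Field F] [Fintype F] [DecidableEq F] [CharP F 2] {G : Type u} [Group G]
variable {M : Type v} [AddCommGroup M] [Module (WTwo F) M]

variable (F M) in
/-- The kernel of doubling. -/
def Tw : Submodule (WTwo F) M := LinearMap.ker ((2 : WTwo F) • (LinearMap.id : M →ₗ[WTwo F] M))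

theorem mem_Tw {v : M} : v ∈ Tw F M ↔ (2 : WTwo F) • v = 0 := by
  simp [Tw]

theorem smul_two_smul (r : WTwo F) (v : M) : (2 : WTwo F) • r • v = r • (2 : WTwo F) • v := smul_comm _ _ _

theorem red_smul {r : WTwo F} (h : WTwo.red r = 0) {v : M} (hv : v ∈ Tw F M) : r • v = 0 := by
  obtain ⟨s, rfl⟩ := WTwo.exists_two_mul h
  rw [mul_smul, smul_two_smul, mem_Tw.1 hv, smul_zero]

theorem smul_congr {r r' : WTwo F} (h : WTwo.red r = WTwo.red r') {v : M} (hv : v ∈ Tw F M) : r • v = r' • v := by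
  have h1 := red_smul (r := r - r') (by rw [map_sub, h, sub_self]) hv
  rwa [sub_smul, sub_eq_zero] at h1

instance : SMul F (Tw F M) := ⟨fun a v => WTwo.tau a • v⟩

theorem coe_fsmul (a : F) (v : Tw F M) : ((a • v : Tw F M) : M) = WTwo.tau a • (v : M) := rfl

/-- The kernel of doubling is a vector space. -/
instance : Module F (Tw F M) where
  one_smul v := Subtype.ext (by rw [coe_fsmul, map_one, one_smul])
  mul_smul a b v := Subtype.ext (by rw [coe_fsmul, coe_fsmul, coe_fsmul, map_mul, mul_smul])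
  smul_zero a := Subtype.ext (by rw [coe_fsmul, ZeroMemClass.coe_zero, smul_zero])
  smul_add a v w := Subtype.ext (by simp only [coe_fsmul, Submodule.coe_add, smul_add])
  add_smul a b v := Subtype.ext (by
    simp only [coe_fsmul, Submodule.coe_add, ← add_smul]
    exact smul_congr (by simp only [map_add, WTwo.red_tau]) v.2)
  zero_smul v := Subtype.ext (by
    rw [coe_fsmul, ZeroMemClass.coe_zero]
    exact red_smul (WTwo.red_tau 0) v.2)

variable (ρ : G →* Module.End (WTwo F) M)

/-- The action on the kernel of doubling. -/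
def twRep : G →* Module.End F (Tw F M) where
  toFun g :=
    { toFun := fun v => ⟨ρ g v, mem_Tw.2 (by rw [← map_smul, mem_Tw.1 v.2, map_zero])⟩
      map_add' := fun v w => Subtype.ext (by simp)
      map_smul' := fun a v => Subtype.ext (by simp [coe_fsmul]) }
  map_one' := by ext v; simp
  map_mul' g g' := by ext v; simp

theorem coe_twRep (g : G) (v : Tw F M) : ((twRep ρ g v : Tw F M) : M) = ρ g v := rfl

/-- The doubles as a subspace of the kernel of doubling. -/
def dbl : Submodule F (Tw F M) where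
  carrier := {v | ∃ x : M, (2 : WTwo F) • x = v}
  zero_mem' := ⟨0, smul_zero _⟩
  add_mem' := by
    rintro v w ⟨x, hx⟩ ⟨y, hy⟩
    exact ⟨x + y, by rw [smul_add, hx, hy, Submodule.coe_add]⟩
  smul_mem' := by
    rintro a v ⟨x, hx⟩
    exact ⟨WTwo.tau a • x, by rw [smul_two_smul, hx, coe_fsmul]⟩

variable {R : RankOne F G} {ι : Type*} [Fintype ι] [DecidableEq ι] {n : ℕ}

section Core

variable (A : Frame R ι n) [Finite G]

/-- The root operator. -/
noncomputable def rootB (x : Fˣ) : Module.End (WTwo F) M := ρ (A.z x) - 1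

/-- Fourier components of the root operator. -/
noncomputable def rootA (μ : Exps F) : Module.End (WTwo F) M := ∑ x : Fˣ, ch μ x⁻¹ • rootB ρ A x

theorem z_zero : A.z 0 = 1 := mul_eq_left.1 (by rw [A.zadd, add_zero] : A.z 0 * A.z 0 = A.z 0)

theorem rootB_comm (x y : Fˣ) : rootB ρ A x * rootB ρ A y = rootB ρ A y * rootB ρ A x := by
  simp only [rootB, sub_mul, mul_sub, one_mul, mul_one, ← map_mul, A.zadd, add_comm (x : F)]
  abel

theorem rootB_sq (x : Fˣ) : rootB ρ A x * rootB ρ A x = -((2 : WTwo F) • rootB ρ A x) := by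
  have h : ρ (A.z x) * ρ (A.z x) = 1 := by
    rw [← map_mul, A.zadd, CharTwo.add_self_eq_zero, z_zero, map_one]
  simp only [rootB, two_smul, sub_mul, mul_sub, one_mul, mul_one, h]
  abel

theorem rootA_comm (μ ν : Exps F) : rootA ρ A μ * rootA ρ A ν = rootA ρ A ν * rootA ρ A μ := by
  simp only [rootA, Finset.sum_mul, Finset.mul_sum, smul_mul_smul_comm]
  rw [Finset.sum_comm]
  simp only [rootB_comm ρ A, mul_comm (ch μ _) (ch ν _)]

theorem rootA_inv (x : Fˣ) : ∑ μ : Exps F, ch μ x • rootA ρ A μ = -rootB ρ A x := by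
  simp only [rootA, Finset.smul_sum, smul_smul, ← ch_mul]
  rw [Finset.sum_comm]
  simp only [← Finset.sum_smul, sum_exps A.card A.one_lt]
  rw [Finset.sum_eq_single x]
  · rw [mul_inv_cancel, if_pos rfl, neg_smul, one_smul]
  · intro y _ hy
    rw [if_neg (fun h => hy (mul_inv_eq_one.1 h).symm), zero_smul]
  · intro h; exact absurd (Finset.mem_univ x) h

/-- The convolution identity. -/
theorem rootA_conv (κ : Exps F) :
    ∑ μ : Exps F, rootA ρ A μ * rootA ρ A (κ - μ) = (2 : WTwo F) • rootA ρ A κ := by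
  have h1 : ∑ x : Fˣ, ch κ x⁻¹ • (rootB ρ A x * rootB ρ A x) = -((2 : WTwo F) • rootA ρ A κ) := by
    simp only [rootB_sq, smul_neg, Finset.sum_neg_distrib, rootA, Finset.smul_sum, smul_smul, mul_comm]
  have h2 : ∑ x : Fˣ, ch κ x⁻¹ • (rootB ρ A x * rootB ρ A x) =
      -∑ μ : Exps F, rootA ρ A μ * rootA ρ A (κ - μ) := by
    have e : ∀ x, rootB ρ A x * rootB ρ A x =
        ∑ μ : Exps F, ∑ ν : Exps F, ch (μ + ν) x • (rootA ρ A μ * rootA ρ A ν) := fun x => by
      rw [← neg_mul_neg, ← rootA_inv, Finset.sum_mul]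
      simp only [Finset.mul_sum, smul_mul_smul_comm, ← ch_add]
    simp only [e, Finset.smul_sum, smul_smul, ch_inv, ← ch_add]
    rw [Finset.sum_comm, ← Finset.sum_neg_distrib]
    refine Finset.sum_congr rfl fun μ _ => ?_
    rw [Finset.sum_comm]
    simp only [← Finset.sum_smul, sum_units A.card A.one_lt]
    rw [Finset.sum_eq_single (κ - μ)]
    · rw [if_pos (by abel), neg_smul, one_smul]
    · intro ν _ hν
      rw [if_neg (fun h => hν ?_), zero_smul]
      rw [eq_sub_iff_add_eq, ← sub_eq_zero, ← h]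
      abel
    · intro h; exact absurd (Finset.mem_univ _) h
  exact neg_injective (h2.symm.trans h1)

theorem h_rootA (μ : Exps F) (y : Fˣ) :
    ρ (R.h y) * rootA ρ A μ = ch ((A.r : Exps F) * μ) y • (rootA ρ A μ * ρ (R.h y)) := by
  have hB : ∀ x, ρ (R.h y) * rootB ρ A x = rootB ρ A (y ^ A.r * x) * ρ (R.h y) := fun x => by
    simp only [rootB, sub_mul, mul_sub, one_mul, mul_one, ← map_mul, A.zconj, Units.val_mul,
      Units.val_pow_eq_pow_val]
  simp only [rootA, Finset.mul_sum, mul_smul_comm, Finset.sum_mul, smul_mul_assoc, hB, Finset.smul_sum, smul_smul,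
    ch_nat_mul, ← ch_mul]
  refine Fintype.sum_equiv (Equiv.mulLeft (y ^ A.r)) _ _ fun x => ?_
  rw [Equiv.coe_mulLeft, mul_inv_rev, mul_comm x⁻¹, ← mul_assoc, mul_inv_cancel, one_mul]

end Core

/-- A fixed-point-free module over Witt vectors of length two is killed by two. -/
theorem Frame.two_smul_eq_zero (A : Frame R ι n) [Finite G] [Finite M]
    (hf : ∀ g : G, Odd (orderOf g) → g ≠ 1 → ∀ v, ρ g v = v → v = 0) (x : M) : (2 : WTwo F) • x = 0 := by
  classical
  by_contra hx
  have hfV : FPF (twRep ρ) := fun g hg hg1 v hv => Subtype.ext (hf g hg hg1 v (congrArg Subtype.val hv))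
  have hW0 : Inv (twRep ρ) (dbl (F := F) (M := M)) := by
    rintro g v ⟨y, hy⟩
    exact ⟨ρ g y, by rw [← map_smul, hy, coe_twRep]⟩
  have hxT : (2 : WTwo F) • x ∈ Tw F M := mem_Tw.2 (by rw [smul_smul, WTwo.four, zero_smul])
  haveI : Nontrivial (dbl (F := F) (M := M)) :=
    ⟨⟨⟨⟨_, hxT⟩, x, rfl⟩, 0, fun h => hx (congrArg (fun v : dbl (F := F) (M := M) => ((v : Tw F M) : M)) h)⟩⟩
  haveI : Finite (Tw F M) := inferInstance
  obtain ⟨W, hW, hWs⟩ := exists_simple (res (twRep ρ) _ hW0)
  have hfW := fpf_res (fpf_res hfV hW0) hW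
  haveI : Finite W := Finite.of_injective _ Subtype.val_injective
  obtain ⟨i, e, he⟩ := A.toNatural.classify _ A.one_lt hWs hfW
  let φ : (ι → F) →ₗ[F] Tw F M := ((dbl (F := F) (M := M)).subtype.comp W.subtype).comp e.symm.toLinearMap
  have hφi : Function.Injective φ := fun a b h =>
    e.symm.injective (Subtype.ext (Subtype.ext h))
  have hφ : ∀ g a, φ (twist A.M i g a) = twRep ρ g (φ a) := fun g a => by
    show (((e.symm (twist A.M i g a)) : dbl (F := F) (M := M)) : Tw F M) = _
    have h := he g (e.symm a)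
    rw [e.apply_symm_apply] at h
    rw [← h, e.symm_apply_apply]
    rfl
  -- vanishing products on the simple module
  have hB : ∀ (y : Fˣ) a, rootB ρ A y (φ a : M) = (φ (twist A.M i (A.z y) a - a) : M) := fun y a => by
    rw [map_sub, hφ, rootB, LinearMap.sub_apply, Module.End.one_apply, Submodule.coe_sub, coe_twRep]
  have hzz : ∀ y y' a, rootB ρ A y (rootB ρ A y' (φ a : M)) = 0 := fun y y' a => by
    rw [hB, hB]
    have h := congrArg (fun P : Matrix ι ι F => Matrix.toLin' (P.map fun t => t ^ 2 ^ (i : ℕ)) a) (A.zsq y y')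
    haveI : ExpChar F 2 := ExpChar.prime Nat.prime_two
    have hm : ∀ P : Matrix ι ι F, (P.map fun t => t ^ 2 ^ (i : ℕ)) = (iterateFrobenius F 2 i).mapMatrix P :=
      fun P => by ext a b; simp [iterateFrobenius_def]
    simp only [hm, map_mul, map_sub, map_one, map_zero, Matrix.toLin'_mul, LinearMap.zero_apply,
      LinearMap.comp_apply, LinearMap.sub_apply, Matrix.toLin'_one, LinearMap.id_apply] at h
    simp only [← hm] at h
    have h' : twist A.M i (A.z y) (twist A.M i (A.z y') a - a) - (twist A.M i (A.z y') a - a) = 0 := by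
      rw [map_sub]
      simp only [twist, MonoidHom.coe_mk, OneHom.coe_mk]
      rw [← h]
      abel
    rw [h', map_zero, ZeroMemClass.coe_zero]
  have hAA : ∀ μ ν a, rootA ρ A μ (rootA ρ A ν (φ a : M)) = 0 := fun μ ν a => by
    simp only [rootA, LinearMap.sum_apply, LinearMap.smul_apply, map_sum, map_smul, hzz, smul_zero, Finset.sum_const_zero]
  -- a lowest vector and its half
  let a0 : ι → F := Pi.single A.lo 1
  obtain ⟨m₀, hm₀⟩ := ((e.symm a0 : W) : dbl (F := F) (M := M)).2
  have hm₀' : (2 : WTwo F) • m₀ = (φ a0 : M) := hm₀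
  set ε : Exps F := ((A.c A.lo * 2 ^ (i : ℕ) : ℕ) : Exps F) with hε
  set w := -∑ y : Fˣ, ch (-ε) y • ρ (R.h y) m₀ with hwdef
  have hw2 : (2 : WTwo F) • w = (φ a0 : M) := by
    have e1 : ∀ y : Fˣ, (2 : WTwo F) • ch (-ε) y • ρ (R.h y) m₀ = (φ a0 : M) := fun y => by
      rw [smul_two_smul, ← map_smul, hm₀', ← coe_twRep, ← hφ, A.twist_h, map_smul, coe_fsmul, smul_smul]
      rw [show WTwo.tau ((y : F) ^ (A.c A.lo * 2 ^ (i : ℕ))) = ch ε y from (ch_cast _ y).symm, ← ch_add,
        neg_add_cancel, ch_zero, one_smul]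
    rw [hwdef, smul_neg, Finset.smul_sum]
    simp only [e1, Finset.sum_const, Finset.card_univ, Fintype.card_units]
    rw [← Nat.cast_smul_eq_nsmul (WTwo F), card_exps A.card A.one_lt, neg_smul, one_smul, neg_neg]
  have hwh : ∀ y, ρ (R.h y) w = ch ε y • w := fun y => by
    simp only [hwdef, map_neg, map_sum, map_smul, smul_neg, Finset.smul_sum, smul_smul, ← Module.End.mul_apply, ← map_mul]
    congr 1
    refine Fintype.sum_equiv (Equiv.mulLeft y) _ _ fun x => ?_
    rw [Equiv.coe_mulLeft, ch_mul, ← mul_assoc, ← ch_add, add_neg_cancel, ch_zero, one_mul]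
  set κ : Exps F := ((A.d * 2 ^ (i : ℕ) : ℕ) : Exps F) with hκ
  set half : Exps F := ((2 ^ (n - 1) : ℕ) : Exps F) with hhalf
  have hn := A.one_lt
  have htwo : half * 2 = 1 := by
    have h2n : ((2 ^ n : ℕ) : Exps F) = 1 := by
      rw [show 2 ^ n = (Fintype.card F - 1) + 1 by rw [A.card]; have := Nat.one_le_two_pow (n := n); omega,
        Nat.cast_add, ZMod.natCast_self, zero_add, Nat.cast_one]
    rw [hhalf, show (2 : Exps F) = ((2 : ℕ) : Exps F) from Nat.cast_two.symm, ← Nat.cast_mul, ← pow_succ,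
      Nat.sub_add_cancel hn.le, h2n]
  -- the middle vector has weight zero
  have hu : rootA ρ A (half * κ) w = 0 := by
    have hrd : (A.r : Exps F) * A.d = 2 * A.wt := by
      have := cast_eq_of_pow (F := F) A.rd
      push_cast at this
      exact this
    have hlo : (A.wt : Exps F) + A.c A.lo = 0 := by
      have := cast_eq_of_pow (F := F) (b := 0) fun y => by rw [A.c_lo, pow_zero]
      push_cast at this
      exact this
    have h0 : (A.r : Exps F) * (half * κ) + ε = 0 := by
      rw [hκ, hε]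
      push_cast
      linear_combination (2 ^ (i : ℕ) * half) * hrd + (2 ^ (i : ℕ) * A.wt) * htwo + (2 ^ (i : ℕ)) * hlo
    haveI : Nontrivial Fˣ := by
      have : 2 ^ 2 ≤ 2 ^ n := Nat.pow_le_pow_right (by norm_num) hn
      refine Fintype.one_lt_card_iff_nontrivial.1 ?_
      rw [Fintype.card_units, A.card]
      omega
    obtain ⟨x₀, hx₀⟩ := exists_ne (1 : Fˣ)
    refine hf _ (A.h_odd (by omega) x₀) (A.h_ne_one hx₀) _ ?_
    have h := LinearMap.congr_fun (h_rootA ρ A (half * κ) x₀) w
    simp only [Module.End.mul_apply, LinearMap.smul_apply] at h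
    rw [h, hwh, map_smul, smul_smul, ← ch_add, h0, ch_zero, one_smul]
  have hsum : ∑ μ : Exps F, rootA ρ A μ (rootA ρ A (κ - μ) w) = 0 := by
    refine Finset.sum_involution (fun μ _ => κ - μ) (fun μ _ => ?_) (fun μ _ hne hfix => hne ?_)
      (fun μ _ => Finset.mem_univ _) (fun μ _ => sub_sub_cancel _ _)
    · rw [sub_sub_cancel]
      have hc := LinearMap.congr_fun (rootA_comm ρ A (κ - μ) μ) w
      simp only [Module.End.mul_apply] at hc
      rw [hc, ← two_smul (WTwo F), ← map_smul, ← map_smul, hw2, hAA]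
    · have hμ : μ = half * κ := by linear_combination (-half) * hfix - μ * htwo
      rw [show κ - μ = μ by exact hfix, hμ, hu, map_zero]
  -- contradiction
  have hA0 : rootA ρ A κ (φ a0 : M) = 0 := by
    rw [← hw2, map_smul]
    have h := LinearMap.congr_fun (rootA_conv ρ A κ) w
    simp only [LinearMap.sum_apply, Module.End.mul_apply, LinearMap.smul_apply] at h
    rw [← h, hsum]
  have hval : (φ (∑ y : Fˣ, ((y⁻¹ : Fˣ) : F) ^ (A.d * 2 ^ (i : ℕ)) • (twist A.M i (A.z y) a0 - a0)) : M) = 0 := by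
    rw [← hA0, map_sum, AddSubmonoidClass.coe_finsetSum, rootA, LinearMap.sum_apply]
    refine Finset.sum_congr rfl fun y _ => ?_
    rw [map_smul, coe_fsmul, LinearMap.smul_apply, hB, hκ, ch_cast]
  have hzero := congrFun (hφi ((Subtype.ext hval : φ _ = 0).trans (map_zero φ).symm)) A.hi
  rw [Finset.sum_apply, Pi.zero_apply] at hzero
  have e1 : ∀ y : Fˣ, (((y⁻¹ : Fˣ) : F) ^ (A.d * 2 ^ (i : ℕ)) • (twist A.M i (A.z y) a0 - a0)) A.hi = 1 := fun y => by
    simp only [Pi.smul_apply, Pi.sub_apply, a0, twist_single, A.zentry, Pi.single_eq_of_ne A.hne, sub_zero, smul_eq_mul,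
      ← pow_mul, ← mul_pow, ← Units.val_mul, inv_mul_cancel, Units.val_one, one_pow]
  simp only [e1, Finset.sum_const, Finset.card_univ, Fintype.card_units, nsmul_eq_mul, mul_one] at hzero
  rw [Nat.cast_sub Fintype.card_pos, FiniteField.cast_card_eq_zero, Nat.cast_one, zero_sub, neg_eq_zero] at hzero
  exact one_ne_zero hzero

end Cfsg.Agent.Lie.FPFTop
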