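import Cfsg.Agent.Lib.Lie.FPFTop.Classify

/-!
# Invariant trilinear forms on modules without fixed points vanish
-/

set_option autoImplicit false
set_option linter.unusedSectionVars false

namespace Cfsg.Agent.Lie.FPFTop

universe u v

variable {F : Type*} [Field F] [Fintype F] [DecidableEq F] [CharP F 2] {G : Type u} [Group G]
variable {ι : Type*} [Fintype ι] [DecidableEq ι]

/-- A natural module with weights and a root group. -/
structure Frame (R : RankOne F G) (ι : Type*) [Fintype ι] [DecidableEq ι] (n : ℕ) extends Natural R ι n where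
  one_lt : 1 < n
  c : ι → ℕ
  diag : ∀ (x : Fˣ) a b, M (R.h x) a b = if a = b then (x : F) ^ c a else 0
  c_lo : ∀ x : Fˣ, (x : F) ^ (wt + c lo) = 1
  sep : ∀ i k l : Fin n, (i = k ∨ (i ≠ k ∧ i ≠ l ∧ k ≠ l)) → ∀ a,
    ∃ x : Fˣ, (x : F) ^ (wt * 2 ^ (i : ℕ) + c lo * 2 ^ (k : ℕ) + c a * 2 ^ (l : ℕ)) ≠ 1
  z : F → G
  r : ℕ
  d : ℕ
  zadd : ∀ a b, z a * z b = z (a + b)
  zconj : ∀ (y : Fˣ) (a : F), R.h y * z a = z ((y : F) ^ r * a) * R.h y
  rd : ∀ x : Fˣ, (x : F) ^ (r * d) = (x : F) ^ (2 * wt)
  zsq : ∀ a b, (M (z a) - 1) * (M (z b) - 1) = 0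
  zentry : ∀ a, M (z a) hi lo = a ^ d

variable {R : RankOne F G} {n : ℕ}

/-- Translates of the lowest vector span a twisted natural module. -/
theorem Natural.span_low [Finite G] (A : Natural R ι n) (k : Fin n) :
    Submodule.span F (Set.range fun y : R.U => twist A.M k y (Pi.single A.lo 1)) = ⊤ := by
  classical
  by_contra hne
  obtain ⟨z, -, hz⟩ := SetLike.exists_of_lt (lt_top_iff_ne_top.2 hne)
  obtain ⟨f, hfz, hf⟩ := Submodule.exists_dual_map_eq_bot_of_notMem hz inferInstance
  obtain ⟨-, hspan⟩ := A.full_basis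
  let π : ((Full n → ι) → F) →ₗ[F] (ι → F) :=
    { toFun := fun p b => p fun i => if i.1 = k then b else A.lo
      map_add' := fun _ _ => rfl
      map_smul' := fun _ _ => rfl }
  have h0 : f.comp π = 0 := by
    refine LinearMap.ext_on_range hspan fun y => ?_
    have e : π (tens A.M Finset.univ y (Pi.single (fun _ => A.lo) 1)) = twist A.M k y (Pi.single A.lo 1) := by
      funext b
      simp only [π, LinearMap.coe_mk, AddHom.coe_mk, ← pure_single, tens_pure, pure', twist_single,
        Matrix.mulVec_single_one, Matrix.col_apply]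
      rw [Finset.prod_eq_single (⟨k, Finset.mem_univ k⟩ : Full n)]
      · simp
      · intro i _ hi
        have : i.1 ≠ k := fun h => hi (Subtype.ext h)
        simp [this, A.rowU (y : G) y.2]
      · intro h; exact absurd (Finset.mem_univ _) h
    show f (π _) = _
    rw [e]
    have hmem := Submodule.mem_map_of_mem (f := f) (Submodule.subset_span (R := F)
      (show twist A.M k y (Pi.single A.lo 1) ∈ Set.range fun y : R.U => twist A.M k y (Pi.single A.lo 1) from ⟨y, rfl⟩))
    rw [hf, Submodule.mem_bot] at hmem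
    exact hmem
  have h1 := congrArg (fun φ : Module.Dual F _ => φ fun a => z (a ⟨k, Finset.mem_univ k⟩)) h0
  simp only [LinearMap.comp_apply, π, LinearMap.coe_mk, AddHom.coe_mk, LinearMap.zero_apply] at h1
  exact hfz (by simpa using h1)

/-- An invariant trilinear form. -/
def InvTri {X Y Z : Type*} [AddCommGroup X] [Module F X] [AddCommGroup Y] [Module F Y] [AddCommGroup Z] [Module F Z]
    (ρ : G →* Module.End F X) (σ : G →* Module.End F Y) (τ : G →* Module.End F Z)
    (β : X →ₗ[F] Y →ₗ[F] Z →ₗ[F] F) : Prop :=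
  ∀ g x y z, β (ρ g x) (σ g y) (τ g z) = β x y z

theorem twist_top (A : Natural R ι n) (i : ℕ) {y : G} (hy : y ∈ R.U) :
    twist A.M i y (Pi.single A.hi 1) = Pi.single A.hi 1 := by
  funext a
  rw [twist_single, A.colU y hy, Pi.single_apply]
  split_ifs <;> simp

theorem Frame.twist_h (A : Frame R ι n) (i : ℕ) (x : Fˣ) (a : ι) :
    twist A.M i (R.h x) (Pi.single a 1) = ((x : F) ^ (A.c a * 2 ^ i)) • Pi.single a 1 := by
  funext b
  rw [twist_single, A.diag, Pi.smul_apply, Pi.single_apply]
  split_ifs with h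
  · rw [h, ← pow_mul, smul_eq_mul, mul_one]
  · rw [zero_pow (by positivity), smul_zero]

theorem Frame.c_hi (A : Frame R ι n) (x : Fˣ) : (x : F) ^ A.c A.hi = (x : F) ^ A.wt := by
  have := A.colh x A.hi
  rwa [A.diag, if_pos rfl, if_pos rfl] at this

/-- The vanishing on three twists, in the good order. -/
theorem Frame.tri_twist (A : Frame R ι n) [Finite G] {i k l : Fin n} (hikl : i = k ∨ (i ≠ k ∧ i ≠ l ∧ k ≠ l))
    (hsimple : Simple (twist A.M i))
    {β : (ι → F) →ₗ[F] (ι → F) →ₗ[F] (ι → F) →ₗ[F] F}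
    (hβ : InvTri (twist A.M i) (twist A.M k) (twist A.M l) β) : β = 0 := by
  classical
  have h0 : β (Pi.single A.hi 1) (Pi.single A.lo 1) = 0 := by
    refine (Pi.basisFun F ι).ext fun a => ?_
    rw [Pi.basisFun_apply, LinearMap.zero_apply]
    obtain ⟨x, hx⟩ := A.sep i k l hikl a
    have h := hβ (R.h x) (Pi.single A.hi 1) (Pi.single A.lo 1) (Pi.single a 1)
    simp only [A.twist_h, map_smul, LinearMap.smul_apply, smul_smul, smul_eq_mul] at h
    by_contra hb
    refine hx (mul_right_cancel₀ hb ?_)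
    rw [one_mul]
    refine Eq.trans ?_ h
    rw [pow_mul, pow_mul, pow_mul, A.c_hi, pow_add, pow_add, pow_mul, pow_mul, pow_mul]
    ring
  have h1 : β (Pi.single A.hi 1) = 0 := by
    refine LinearMap.ext_on_range (A.toNatural.span_low k) fun y => LinearMap.ext fun z => ?_
    have h := hβ (y : G) (Pi.single A.hi 1) (Pi.single A.lo 1) (twist A.M l (y : G)⁻¹ z)
    rw [twist_top A.toNatural i y.2, apply_self_inv, h0] at h
    simpa using h
  have hinv : Inv (twist A.M i) (LinearMap.ker β) := by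
    intro g x hx
    rw [LinearMap.mem_ker] at hx ⊢
    refine LinearMap.ext fun y => LinearMap.ext fun z => ?_
    have h := hβ g x (twist A.M k g⁻¹ y) (twist A.M l g⁻¹ z)
    rw [apply_self_inv, apply_self_inv, hx] at h
    simpa using h
  rcases hsimple.2 _ hinv with h | h
  · have hm : Pi.single A.hi (1 : F) ∈ LinearMap.ker β := h1
    rw [h, Submodule.mem_bot] at hm
    exact absurd (congrFun hm A.hi) (by simp)
  · exact LinearMap.ker_eq_top.1 h

theorem simple_of_equiv {V V' : Type*} [AddCommGroup V] [Module F V] [AddCommGroup V'] [Module F V']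
    {ρ : G →* Module.End F V} {ρ' : G →* Module.End F V'} (hs : Simple ρ) (e : V ≃ₗ[F] V')
    (he : ∀ g x, e (ρ g x) = ρ' g (e x)) : Simple ρ' := by
  haveI := hs.1
  refine ⟨e.toEquiv.nontrivial_congr.1 hs.1, fun W hW => ?_⟩
  rcases hs.2 (W.comap e.toLinearMap) (fun g x hx => by
    show e (ρ g x) ∈ W
    rw [he]
    exact hW g _ hx) with h | h
  · exact Or.inl (Submodule.comap_injective_of_surjective e.surjective
      (h.trans (by rw [Submodule.comap_bot, LinearEquiv.ker])))
  · exact Or.inr (Submodule.comap_injective_of_surjective e.surjective (h.trans (Submodule.comap_top _).symm))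

variable {X Y Z : Type v} [AddCommGroup X] [Module F X] [AddCommGroup Y] [Module F Y] [AddCommGroup Z] [Module F Z]
  (ρ : G →* Module.End F X) (σ : G →* Module.End F Y) (τ : G →* Module.End F Z)

theorem InvTri.swap {β : X →ₗ[F] Y →ₗ[F] Z →ₗ[F] F} (h : InvTri ρ σ τ β) : InvTri σ ρ τ β.flip :=
  fun g y x z => h g x y z

theorem InvTri.swap' {β : X →ₗ[F] Y →ₗ[F] Z →ₗ[F] F} (h : InvTri ρ σ τ β) :
    InvTri ρ τ σ ((LinearMap.lflip (R₀ := F)).toLinearMap.comp β) :=
  fun g x z y => h g x y z

/-- Three simple modules without fixed points carry no invariant trilinear form. -/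
theorem Frame.tri_simple (A : Frame R ι n) [Finite G] [Finite X] [Finite Y] [Finite Z]
    (hX : Simple ρ) (hY : Simple σ) (hZ : Simple τ) (fX : FPF ρ) (fY : FPF σ) (fZ : FPF τ)
    {β : X →ₗ[F] Y →ₗ[F] Z →ₗ[F] F} (hβ : InvTri ρ σ τ β) : β = 0 := by
  obtain ⟨i, eX, hi⟩ := A.classify ρ A.one_lt hX fX
  obtain ⟨k, eY, hk⟩ := A.classify σ A.one_lt hY fY
  obtain ⟨l, eZ, hl⟩ := A.classify τ A.one_lt hZ fZ
  have hsi := simple_of_equiv hX eX hi
  have hsk := simple_of_equiv hY eY hk
  let γ : (ι → F) →ₗ[F] (ι → F) →ₗ[F] (ι → F) →ₗ[F] F :=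
    { toFun := fun a =>
        { toFun := fun b => (β (eX.symm a) (eY.symm b)).comp eZ.symm.toLinearMap
          map_add' := fun b b' => by ext; simp
          map_smul' := fun r b => by ext; simp }
      map_add' := fun a a' => by ext; simp
      map_smul' := fun r a => by ext; simp }
  have hγ : InvTri (twist A.M i) (twist A.M k) (twist A.M l) γ := by
    intro g a b c
    show β (eX.symm _) (eY.symm _) (eZ.symm _) = β (eX.symm a) (eY.symm b) (eZ.symm c)
    conv_lhs => rw [← eX.apply_symm_apply a, ← hi, ← eY.apply_symm_apply b, ← hk, ← eZ.apply_symm_apply c, ← hl]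
    simp [hβ g]
  have hz : γ = 0 := by
    by_cases hik : i = k
    · exact A.tri_twist (Or.inl hik) hsi hγ
    by_cases hil : i = l
    · have h := A.tri_twist (k := l) (l := k) (Or.inl hil) hsi hγ.swap'
      ext a b c
      exact DFunLike.congr_fun (DFunLike.congr_fun (DFunLike.congr_fun h _) _) _
    by_cases hkl : k = l
    · have h := A.tri_twist (i := k) (k := l) (l := i) (Or.inl hkl) hsk (InvTri.swap' _ _ _ hγ.swap)
      ext a b c
      exact DFunLike.congr_fun (DFunLike.congr_fun (DFunLike.congr_fun h _) _) _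
    exact A.tri_twist (Or.inr ⟨hik, hil, hkl⟩) hsi hγ
  ext x y z
  have h := DFunLike.congr_fun (DFunLike.congr_fun (DFunLike.congr_fun hz (eX x)) (eY y)) (eZ z)
  simpa [γ] using h

end Cfsg.Agent.Lie.FPFTop
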