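import Cfsg.Agent.Lib.Lie.FPFTop.InstLinear
import Cfsg.Agent.Lib.Lie.FPFTop.Trilinear
import Cfsg.Agent.Lib.Lie.FPFTop.Binary

/-!
# The frame of the two-dimensional special linear group
-/

set_option autoImplicit false
set_option linter.unusedSectionVars false
set_option linter.unusedSimpArgs false

namespace Cfsg.Agent.Lie.FPFTop

variable {F : Type*} [Field F] [Fintype F] [DecidableEq F] [CharP F 2] {n : ℕ}

theorem pow_sub_inv {x : Fˣ} {k : ℕ} (hk : k ≤ Fintype.card F - 1) :
    (x : F) ^ (Fintype.card F - 1 - k) = ((x : F) ^ k)⁻¹ := by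
  refine eq_inv_of_mul_eq_one_left ?_
  rw [← pow_add, Nat.sub_add_cancel hk, FiniteField.pow_card_sub_one_eq_one _ x.ne_zero]

theorem cast_sub_exps {k : ℕ} (hk : k ≤ Fintype.card F - 1) :
    ((Fintype.card F - 1 - k : ℕ) : Exps F) = -(k : Exps F) := by
  rw [Nat.cast_sub hk, ZMod.natCast_self, zero_sub]

/-- The separation condition for the linear group. -/
theorem linear_sep (hF : Fintype.card F = 2 ^ n) (hn : 1 < n) {i k l : Fin n}
    (h : i = k ∨ (i ≠ k ∧ i ≠ l ∧ k ≠ l)) {c : Exps F} (hc : c = 1 ∨ c = -1) :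
    (p2 i : Exps F) - p2 k + c * p2 l ≠ 0 := by
  haveI : Nontrivial (Exps F) := by
    haveI : Fact (1 < Fintype.card F - 1) := ⟨by
      have : 2 ^ 2 ≤ 2 ^ n := Nat.pow_le_pow_right (by norm_num) hn
      omega⟩
    infer_instance
  intro h0
  rcases h with rfl | ⟨hik, hil, hkl⟩
  · rw [sub_self, zero_add] at h0
    have hu : IsUnit (c * p2 l) := IsUnit.mul (by rcases hc with rfl | rfl <;> simp) (p2_isUnit hF l)
    exact not_isUnit_zero (h0 ▸ hu)
  have hsing : ∀ a b b' : Fin n, b ≠ b' → (p2 a : Exps F) ≠ p2 b + p2 b' := by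
    intro a b b' hbb e
    have hcard : ({a} : Finset (Fin n)) ≠ Finset.univ := fun e' => by
      have := congrArg Finset.card e'
      simp at this
      omega
    have e' := bits_inj hF hn (Finset.singleton_nonempty a) hcard (J := {b, b'}) (Finset.insert_nonempty _ _)
      (by rw [Finset.sum_singleton, Finset.sum_pair hbb, e])
    have := congrArg Finset.card e'
    rw [Finset.card_singleton, Finset.card_pair hbb] at this
    omega
  rcases hc with rfl | rfl
  · exact hsing k i l hil (by linear_combination -h0)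
  · exact hsing i k l hkl (by linear_combination h0)

/-- The frame. -/
noncomputable def linearFrame (hF : Fintype.card F = 2 ^ n) (hn : 1 < n) :
    Frame (linearR (F := F)) (Fin 2) n where
  toNatural := linearA hF
  one_lt := hn
  c := ![1, Fintype.card F - 1 - 1]
  diag x a b := by
    have h1 : 1 ≤ Fintype.card F - 1 := by
      have : 2 ^ 2 ≤ 2 ^ n := Nat.pow_le_pow_right (by norm_num) hn
      omega
    show ((hL x : Matrix.SpecialLinearGroup (Fin 2) F) : Matrix (Fin 2) (Fin 2) F) a b = _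
    fin_cases a <;> fin_cases b <;> simp [coe_hL, pow_sub_inv h1]
  c_lo x := by
    have h1 : 1 ≤ Fintype.card F - 1 := by
      have : 2 ^ 2 ≤ 2 ^ n := Nat.pow_le_pow_right (by norm_num) hn
      omega
    show (x : F) ^ (1 + (Fintype.card F - 1 - 1)) = 1
    rw [Nat.add_sub_cancel' h1, FiniteField.pow_card_sub_one_eq_one _ x.ne_zero]
  sep i k l h a := by
    have h1 : 1 ≤ Fintype.card F - 1 := by
      have : 2 ^ 2 ≤ 2 ^ n := Nat.pow_le_pow_right (by norm_num) hn
      omega
    refine exists_pow_ne ?_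
    show ((1 * 2 ^ (i : ℕ) + (Fintype.card F - 1 - 1) * 2 ^ (k : ℕ) +
      (![1, Fintype.card F - 1 - 1] : Fin 2 → ℕ) a * 2 ^ (l : ℕ) : ℕ) : Exps F) ≠ 0
    have hc : (((![1, Fintype.card F - 1 - 1] : Fin 2 → ℕ) a : ℕ) : Exps F) = 1 ∨
        (((![1, Fintype.card F - 1 - 1] : Fin 2 → ℕ) a : ℕ) : Exps F) = -1 := by
      fin_cases a <;> simp [cast_sub_exps h1]
    have e := linear_sep hF hn h hc
    rw [Nat.cast_add, Nat.cast_add, Nat.cast_mul, Nat.cast_mul, Nat.cast_mul, cast_sub_exps h1, Nat.cast_one]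
    intro h0
    refine e ?_
    simp only [p2]
    linear_combination h0
  z := uL
  r := 2
  d := 1
  zadd := uL_mul
  zconj y a := by
    ext i j
    simp only [linearR, Matrix.SpecialLinearGroup.coe_mul]
    fin_cases i <;> fin_cases j <;> simp [uL, coe_hL, Matrix.mul_apply, Fin.sum_univ_two]
    field_simp
  rd x := rfl
  zsq a b := by
    show (((uL a : Matrix.SpecialLinearGroup (Fin 2) F) : Matrix (Fin 2) (Fin 2) F) - 1) *
      (((uL b : Matrix.SpecialLinearGroup (Fin 2) F) : Matrix (Fin 2) (Fin 2) F) - 1) = 0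
    ext i j
    fin_cases i <;> fin_cases j <;> simp [uL, Matrix.mul_apply, Fin.sum_univ_two]
  zentry a := by
    show ((uL a : Matrix.SpecialLinearGroup (Fin 2) F) : Matrix (Fin 2) (Fin 2) F) 0 1 = a ^ 1
    simp [uL]

end Cfsg.Agent.Lie.FPFTop
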