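import Cfsg.Agent.Lib.Lie.FPFTop.InstSuzuki
import Cfsg.Agent.Lib.Lie.FPFTop.FrameLinear

/-!
# The frame of the Suzuki group
-/

set_option autoImplicit false
set_option linter.unusedSectionVars false
set_option linter.unusedSimpArgs false

namespace Cfsg.Agent.Lie.FPFTop

variable {F : Type*} [Field F] [Fintype F] [DecidableEq F] [CharP F 2] {m : ℕ}
  (hF : Fintype.card F = 2 ^ (2 * m + 1))

include hF

/-- The combination of the two weights never matches three powers of two. -/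
theorem suzuki_no_sol (hm : 1 ≤ m) {i k l : Fin (2 * m + 1)} (hik : i ≠ k) (hil : i ≠ l) (hkl : k ≠ l)
    (M : Fin (2 * m + 1)) (hM : M.val = m) :
    (p2 (M + k) : Exps F) + p2 k ≠ p2 (M + i) + p2 i + p2 (M + l) := by
  intro e
  have hn : 1 < 2 * m + 1 := by omega
  have hM0 : M ≠ 0 := fun h => by rw [h, Fin.val_zero] at hM; omega
  have hMk : M + k ≠ k := fun h => hM0 (add_eq_right.1 h)
  have hMi : M + i ≠ i := fun h => hM0 (add_eq_right.1 h)
  have hI : ({M + k, k} : Finset (Fin (2 * m + 1))) ≠ Finset.univ := fun h => by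
    have := congrArg Finset.card h
    rw [Finset.card_pair hMk, Finset.card_univ, Fintype.card_fin] at this
    omega
  have key : ∀ J : Finset (Fin (2 * m + 1)), J.Nonempty → ∑ j ∈ J, (p2 j : Exps F) = p2 (M + k) + p2 k →
      ({M + k, k} : Finset (Fin (2 * m + 1))) = J := fun J hJ hs =>
    bits_inj hF hn (Finset.insert_nonempty _ _) hI hJ (by rw [Finset.sum_pair hMk, hs])
  by_cases hli : M + l = i
  · have hdbl : (p2 i : Exps F) + p2 i = p2 (i + Fin.ofNat _ 1) := by
      rw [← p2_add hF, p2_ofNat hF, pow_one, mul_two]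
    rw [hli, add_assoc, hdbl] at e
    by_cases hM1 : M + i = i + Fin.ofNat _ 1
    · have hdbl' : (p2 (i + Fin.ofNat (2 * m + 1) 1) : Exps F) + p2 (i + Fin.ofNat _ 1) =
          p2 (i + Fin.ofNat _ 1 + Fin.ofNat _ 1) := by
        rw [← p2_add hF (i + Fin.ofNat _ 1), p2_ofNat hF, pow_one, mul_two]
      rw [hM1, hdbl'] at e
      have := congrArg Finset.card (key {i + Fin.ofNat _ 1 + Fin.ofNat _ 1} (Finset.singleton_nonempty _)
        (by rw [Finset.sum_singleton, e]))
      rw [Finset.card_pair hMk, Finset.card_singleton] at this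
      omega
    · have hJ := key {M + i, i + Fin.ofNat _ 1} (Finset.insert_nonempty _ _) (by rw [Finset.sum_pair hM1, e])
      have h1 : M + k = i + Fin.ofNat _ 1 := by
        have hmem : M + k ∈ ({M + i, i + Fin.ofNat _ 1} : Finset (Fin (2 * m + 1))) := hJ ▸ Finset.mem_insert_self _ _
        rw [Finset.mem_insert, Finset.mem_singleton] at hmem
        exact hmem.resolve_left fun h => hik (add_left_cancel h).symm
      have h2 : k = M + i := by
        have hmem : k ∈ ({M + i, i + Fin.ofNat _ 1} : Finset (Fin (2 * m + 1))) :=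
          hJ ▸ Finset.mem_insert_of_mem (Finset.mem_singleton_self _)
        rw [Finset.mem_insert, Finset.mem_singleton] at hmem
        exact hmem.resolve_right fun h => hMk (h1.trans h.symm)
      rw [h2, ← add_assoc, add_comm i] at h1
      have h3 := congrArg Fin.val (add_right_cancel h1)
      rw [Fin.val_add, hM, Fin.val_ofNat, Nat.mod_eq_of_lt (by omega), Nat.mod_eq_of_lt (by omega)] at h3
      omega
  · have hMil : M + i ≠ M + l := fun h => hil (add_left_cancel h)
    have hne : i ≠ M + l := fun h => hli h.symm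
    have := congrArg Finset.card (key {M + i, i, M + l} (Finset.insert_nonempty _ _)
      (by rw [Finset.sum_insert (by simp [hMi, hMil]), Finset.sum_pair hne, ← add_assoc, e]))
    rw [Finset.card_pair hMk, Finset.card_eq_three.2 ⟨_, _, _, hMi, hMil, hne, rfl⟩] at this
    omega

/-- The separation condition for the Suzuki group. -/
theorem suzuki_sep (hm : 1 ≤ m) {i k l : Fin (2 * m + 1)} (h : i = k ∨ (i ≠ k ∧ i ≠ l ∧ k ≠ l)) {c : Exps F}
    (hc : c = 2 ^ m + 1 ∨ c = 2 ^ m ∨ c = -2 ^ m ∨ c = -(2 ^ m + 1)) :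
    (2 ^ m + 1) * p2 i - (2 ^ m + 1) * p2 k + c * p2 l ≠ (0 : Exps F) := by
  classical
  haveI : Fact (1 < Fintype.card F - 1) := ⟨by
    have : 2 ^ 3 ≤ 2 ^ (2 * m + 1) := Nat.pow_le_pow_right (by norm_num) (by omega)
    omega⟩
  have hw : IsUnit (2 ^ m + 1 : Exps F) := by
    have h1 : (2 ^ m + 1).Coprime (Fintype.card F - 1) := hF ▸ (suzukiA hF hm).cop
    have h2 := (ZMod.unitOfCoprime _ h1).isUnit
    rw [ZMod.coe_unitOfCoprime] at h2
    push_cast at h2
    exact h2
  let M : Fin (2 * m + 1) := Fin.ofNat _ m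
  have hM : M.val = m := by rw [Fin.val_ofNat, Nat.mod_eq_of_lt (by omega)]
  have hpM : ∀ a, (2 : Exps F) ^ m * p2 a = p2 (M + a) := fun a => by rw [← p2_add hF, p2_ofNat hF]
  intro h0
  rcases h with rfl | ⟨hik, hil, hkl⟩
  · rw [sub_self, zero_add] at h0
    have hm' : IsUnit ((2 : Exps F) ^ m) := by
      rw [← p2_ofNat hF]; exact p2_isUnit hF _
    have hu : IsUnit (c * p2 l) := IsUnit.mul (by rcases hc with rfl | rfl | rfl | rfl <;>
      first | exact hw | exact hm' | exact hm'.neg | exact hw.neg) (p2_isUnit hF l)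
    exact not_isUnit_zero (h0 ▸ hu)
  have hlin : ∀ {c : Exps F}, (c = 1 ∨ c = -1) → (p2 i : Exps F) - p2 k + c * p2 l ≠ 0 := fun hc =>
    linear_sep hF (by omega) (Or.inr ⟨hik, hil, hkl⟩) hc
  rcases hc with rfl | rfl | rfl | rfl
  · exact hlin (Or.inl rfl) (hw.mul_right_eq_zero.1 (by linear_combination h0))
  · exact suzuki_no_sol hF hm hik hil hkl M hM (by linear_combination -h0 - hpM k + hpM i + hpM l)
  · exact suzuki_no_sol hF hm (Ne.symm hik) hkl hil M hM (by linear_combination h0 - hpM i + hpM k + hpM l)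
  · exact hlin (Or.inr rfl) (hw.mul_right_eq_zero.1 (by linear_combination h0))

/-- The frame. -/
noncomputable def suzukiFrame (hm : 1 ≤ m) : Frame (suzukiR hF hm) (Fin 4) (2 * m + 1) where
  toNatural := suzukiA hF hm
  one_lt := by omega
  c := ![2 ^ m + 1, 2 ^ m, Fintype.card F - 1 - 2 ^ m, Fintype.card F - 1 - (2 ^ m + 1)]
  diag x a b := by
    have h1 : 2 ^ m + 1 ≤ Fintype.card F - 1 := by
      rw [hF, pow_succ, two_mul, pow_add]
      have h2 : 2 ≤ 2 ^ m := Nat.le_self_pow (by omega) 2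
      have h3 : 2 ^ m * 2 ≤ 2 ^ m * 2 ^ m := Nat.mul_le_mul_left _ h2
      omega
    show (Suzuki.dM m x : Matrix (Fin 4) (Fin 4) F) a b = _
    fin_cases a <;> fin_cases b <;> simp [Suzuki.dM, pow_sub_inv h1, pow_sub_inv (show 2 ^ m ≤ Fintype.card F - 1 by omega)]
  c_lo x := by
    have h1 : 2 ^ m + 1 ≤ Fintype.card F - 1 := by
      rw [hF, pow_succ, two_mul, pow_add]
      have h2 : 2 ≤ 2 ^ m := Nat.le_self_pow (by omega) 2
      have h3 : 2 ^ m * 2 ≤ 2 ^ m * 2 ^ m := Nat.mul_le_mul_left _ h2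
      omega
    show (x : F) ^ (2 ^ m + 1 + (Fintype.card F - 1 - (2 ^ m + 1))) = 1
    rw [Nat.add_sub_cancel' h1, FiniteField.pow_card_sub_one_eq_one _ x.ne_zero]
  sep i k l h a := by
    have h1 : 2 ^ m + 1 ≤ Fintype.card F - 1 := by
      rw [hF, pow_succ, two_mul, pow_add]
      have h2 : 2 ≤ 2 ^ m := Nat.le_self_pow (by omega) 2
      have h3 : 2 ^ m * 2 ≤ 2 ^ m * 2 ^ m := Nat.mul_le_mul_left _ h2
      omega
    refine exists_pow_ne ?_
    set cs : Fin 4 → ℕ := ![2 ^ m + 1, 2 ^ m, Fintype.card F - 1 - 2 ^ m, Fintype.card F - 1 - (2 ^ m + 1)] with hcs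
    show (((2 ^ m + 1) * 2 ^ (i : ℕ) + (Fintype.card F - 1 - (2 ^ m + 1)) * 2 ^ (k : ℕ) +
      cs a * 2 ^ (l : ℕ) : ℕ) : Exps F) ≠ 0
    have hc : (cs a : Exps F) = 2 ^ m + 1 ∨ (cs a : Exps F) = 2 ^ m ∨ (cs a : Exps F) = -2 ^ m ∨
        (cs a : Exps F) = -(2 ^ m + 1) := by
      fin_cases a
      · left; simp [hcs]
      · right; left; simp [hcs]
      · right; right; left
        show ((Fintype.card F - 1 - 2 ^ m : ℕ) : Exps F) = _
        rw [cast_sub_exps (by omega)]; simp
      · right; right; right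
        show ((Fintype.card F - 1 - (2 ^ m + 1) : ℕ) : Exps F) = _
        rw [cast_sub_exps h1]; simp
    have e := suzuki_sep hF hm h (l := l) hc
    rw [Nat.cast_add, Nat.cast_add, Nat.cast_mul, Nat.cast_mul, Nat.cast_mul, cast_sub_exps h1]
    intro h0
    refine e ?_
    simp only [p2]
    push_cast at h0 ⊢
    linear_combination h0
  z b := Suzuki.tS hF 0 b
  r := 2 ^ (m + 1) + 1
  d := 2 ^ (m + 1)
  zadd a b := by rw [Suzuki.tS_mul hF, zero_pow (by positivity), zero_mul, add_zero, add_zero]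
  zconj y a := by
    show Suzuki.dS hF y * _ = _
    rw [Suzuki.dS_mul_tS hF hm, mul_zero]
    rfl
  rd x := by
    show (x : F) ^ ((2 ^ (m + 1) + 1) * 2 ^ (m + 1)) = (x : F) ^ (2 * (2 ^ m + 1))
    rw [pow_mul, pow_succ, mul_pow, Suzuki.sg_sg hF, mul_add, mul_one, ← pow_succ', pow_add _ (2 ^ (m + 1)) 2,
      mul_comm]
  zsq a b := by
    show ((Suzuki.tM m 0 a : Matrix (Fin 4) (Fin 4) F) - 1) * ((Suzuki.tM m 0 b : Matrix (Fin 4) (Fin 4) F) - 1) = 0
    ext i j
    fin_cases i <;> fin_cases j <;>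
      simp [Suzuki.tM, Suzuki.tMat, Matrix.mul_apply, Fin.sum_univ_four]
  zentry a := by
    show Suzuki.tMat m 0 a 0 3 = a ^ 2 ^ (m + 1)
    simp [Suzuki.tMat, Suzuki.fv]

end Cfsg.Agent.Lie.FPFTop
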