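import Cfsg.Agent.Lib.Lie.FPFTop.Classify

/-!
# The two-dimensional special linear group in characteristic two as a rank-one structure
-/

set_option autoImplicit false
set_option linter.unusedSectionVars false

namespace Cfsg.Agent.Lie.FPFTop

open Matrix

variable {F : Type*} [Field F] [Fintype F] [DecidableEq F] [CharP F 2]

/-- Upper unitriangular elements. -/
def uL (b : F) : Matrix.SpecialLinearGroup (Fin 2) F := ⟨!![1, b; 0, 1], by simp [Matrix.det_fin_two]⟩

/-- A diagonal element. -/
def dL (x : Fˣ) : Matrix.SpecialLinearGroup (Fin 2) F :=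
  ⟨!![(x : F), 0; 0, (x : F)⁻¹], by simp [Matrix.det_fin_two]⟩

/-- Diagonal elements. -/
def hL : Fˣ →* Matrix.SpecialLinearGroup (Fin 2) F where
  toFun := dL
  map_one' := by ext i j; fin_cases i <;> fin_cases j <;> simp [dL]
  map_mul' x y := by
    ext i j
    simp only [Matrix.SpecialLinearGroup.coe_mul]
    fin_cases i <;> fin_cases j <;> simp [dL, Matrix.mul_apply, Fin.sum_univ_two, mul_comm]

theorem coe_hL (x : Fˣ) : ((hL x : Matrix.SpecialLinearGroup (Fin 2) F) : Matrix (Fin 2) (Fin 2) F) =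
    !![(x : F), 0; 0, (x : F)⁻¹] := rfl

/-- The exchange of the coordinates. -/
def wL : Matrix.SpecialLinearGroup (Fin 2) F := ⟨!![0, 1; 1, 0], by simp [Matrix.det_fin_two, CharTwo.neg_eq]⟩

theorem uL_mul (a b : F) : uL a * uL b = uL (a + b) := (by
  ext i j
  simp only [Matrix.SpecialLinearGroup.coe_mul, Matrix.SpecialLinearGroup.coe_pow, Matrix.SpecialLinearGroup.coe_one]
  fin_cases i <;> fin_cases j <;> simp [uL, Matrix.mul_apply, Fin.sum_univ_two, add_comm])

theorem uL_zero : uL (0 : F) = 1 := (by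
  ext i j
  fin_cases i <;> fin_cases j <;> simp [uL])

/-- The unipotent group. -/
def uLSub : Subgroup (Matrix.SpecialLinearGroup (Fin 2) F) where
  carrier := Set.range uL
  one_mem' := ⟨0, uL_zero⟩
  mul_mem' := by rintro _ _ ⟨a, rfl⟩ ⟨b, rfl⟩; exact ⟨a + b, (uL_mul a b).symm⟩
  inv_mem' := by
    rintro _ ⟨a, rfl⟩
    exact ⟨a, (inv_eq_of_mul_eq_one_right (by rw [uL_mul, CharTwo.add_self_eq_zero, uL_zero])).symm⟩

/-- The rank-one structure. -/
def linearR : RankOne F (Matrix.SpecialLinearGroup (Fin 2) F) where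
  U := uLSub
  h := hL
  w := wL
  two := by
    rintro ⟨g, a, rfl⟩
    exact ⟨1, Subtype.ext (by
      show uL a ^ 2 ^ 1 = 1
      rw [pow_one, pow_two, uL_mul, CharTwo.add_self_eq_zero, uL_zero])⟩
  norm := by
    rintro x _ ⟨a, rfl⟩
    refine ⟨(x : F) * a * x, eq_mul_inv_of_mul_eq ?_⟩
    ext i j
    simp only [Matrix.SpecialLinearGroup.coe_mul, Matrix.SpecialLinearGroup.coe_pow, Matrix.SpecialLinearGroup.coe_one]
    fin_cases i <;> fin_cases j <;> simp [uL, coe_hL, Matrix.mul_apply, Fin.sum_univ_two]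
  flip x := (by
    ext i j
    simp only [Matrix.SpecialLinearGroup.coe_mul, Matrix.SpecialLinearGroup.coe_pow, Matrix.SpecialLinearGroup.coe_one]
    fin_cases i <;> fin_cases j <;> simp [wL, coe_hL, Matrix.mul_apply, Fin.sum_univ_two])
  decomp g := by
    have hd : g 0 0 * g 1 1 + g 0 1 * g 1 0 = 1 := by
      have := g.2
      rwa [Matrix.det_fin_two, CharTwo.sub_eq_add] at this
    by_cases hc : g 1 0 = 0
    · rw [hc, mul_zero, add_zero] at hd
      refine Or.inl ⟨_, ⟨g 0 1 * g 0 0, rfl⟩, Units.mk0 (g 0 0) (left_ne_zero_of_mul_eq_one hd), ?_⟩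
      ext i j
      have hinv : (g 0 0)⁻¹ = g 1 1 := inv_eq_of_mul_eq_one_right hd
      simp only [Matrix.SpecialLinearGroup.coe_mul, Matrix.SpecialLinearGroup.coe_pow, Matrix.SpecialLinearGroup.coe_one]
      fin_cases i <;> fin_cases j <;>
        simp [uL, coe_hL, Matrix.mul_apply, Fin.sum_univ_two, hc, hinv]
      rw [mul_assoc, hd, mul_one]
    · refine Or.inr ⟨_, ⟨g 0 0 / g 1 0, rfl⟩, _, ⟨g 1 1 * g 1 0, rfl⟩, Units.mk0 _ hc, ?_⟩
      ext i j
      simp only [Matrix.SpecialLinearGroup.coe_mul, Matrix.SpecialLinearGroup.coe_pow, Matrix.SpecialLinearGroup.coe_one]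
      fin_cases i <;> fin_cases j <;>
        simp [uL, wL, coe_hL, Matrix.mul_apply, Fin.sum_univ_two, hc]
      field_simp
      linear_combination hd + (-(g 0 0 * g 1 1)) * (CharTwo.two_eq_zero (R := F))

/-- An element of order three. -/
def gL : Matrix.SpecialLinearGroup (Fin 2) F := ⟨!![1, 1; 1, 0], by simp [Matrix.det_fin_two, CharTwo.neg_eq]⟩

theorem coe_gL : ((gL : Matrix.SpecialLinearGroup (Fin 2) F) : Matrix (Fin 2) (Fin 2) F) = !![1, 1; 1, 0] := rfl

/-- Functions on the field are polynomials of degree less than the order. -/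
theorem exists_poly (f : F → F) : ∃ P : Polynomial F, P.natDegree < Fintype.card F ∧ ∀ x, P.eval x = f x := by
  have hq : 1 < Fintype.card F := Fintype.one_lt_card
  refine ⟨∑ y : F, Polynomial.C (f y) * (1 - (Polynomial.X - Polynomial.C y) ^ (Fintype.card F - 1)), ?_, fun x => ?_⟩
  · refine lt_of_le_of_lt (Polynomial.natDegree_sum_le_of_forall_le (n := Fintype.card F - 1) _ _ fun y _ => ?_) (by omega)
    refine (Polynomial.natDegree_C_mul_le _ _).trans ((Polynomial.natDegree_sub_le _ _).trans (max_le (by simp) ?_))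
    exact Polynomial.natDegree_pow_le.trans (by simp)
  · rw [Polynomial.eval_finsetSum, Finset.sum_eq_single x]
    · simp [zero_pow (show Fintype.card F - 1 ≠ 0 by omega)]
    · intro y _ hy
      simp [FiniteField.pow_card_sub_one_eq_one _ (sub_ne_zero.2 (Ne.symm hy))]
    · intro h; exact absurd (Finset.mem_univ x) h

/-- The natural module. -/
noncomputable def linearA {n : ℕ} (hF : Fintype.card F = 2 ^ n) : Natural (linearR (F := F)) (Fin 2) n where
  M := { toFun := fun g => (g : Matrix (Fin 2) (Fin 2) F), map_one' := rfl, map_mul' := fun _ _ => rfl }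
  hi := 0
  lo := 1
  wt := 1
  hne := by decide
  card := hF
  cardU := by
    rw [Fintype.card_fin, ← hF, ← Nat.card_eq_fintype_card]
    refine (Nat.card_eq_of_bijective (fun b : F => (⟨uL b, b, rfl⟩ : (linearR (F := F)).U)) ⟨fun a b h => ?_, ?_⟩).symm
    · have := congrFun (congrFun (congrArg (fun u : (linearR (F := F)).U => (u.1 : Matrix (Fin 2) (Fin 2) F)) h) 0) 1
      simpa [uL] using this
    · rintro ⟨_, b, rfl⟩; exact ⟨b, rfl⟩
  cop := Nat.coprime_one_left _
  colU := by rintro _ ⟨b, rfl⟩ a; fin_cases a <;> simp [uL]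
  rowU := by rintro _ ⟨b, rfl⟩; simp [uL]
  colw a := by fin_cases a <;> simp [linearR, wL]
  colh x a := by fin_cases a <;> simp [linearR, coe_hL]
  span f := by
    classical
    obtain ⟨P, hP, hPf⟩ := exists_poly fun b => f ⟨uL b, b, rfl⟩
    let Φ : ((Fin n → Fin 2) → F) →ₗ[F] (F → F) :=
      { toFun := fun c b => ∑ a, c a * ∏ i, (uL b : Matrix (Fin 2) (Fin 2) F) (a i) 1 ^ 2 ^ (i : ℕ)
        map_add' := fun c d => funext fun b => by simp [add_mul, Finset.sum_add_distrib]
        map_smul' := fun r c => funext fun b => by simp [Finset.mul_sum, mul_assoc] }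
    have hmon : ∀ s < 2 ^ n, (fun b : F => b ^ s) ∈ LinearMap.range Φ := by
      intro s hs
      obtain ⟨I, hI⟩ := exists_bits n s hs
      refine ⟨Pi.single (fun i => if i ∈ I then 0 else 1) 1, funext fun b => ?_⟩
      show ∑ a, _ = _
      rw [Finset.sum_eq_single (fun i => if i ∈ I then (0 : Fin 2) else 1)]
      · rw [Pi.single_eq_same, one_mul, ← hI, ← Finset.prod_pow_eq_pow_sum,
          Finset.prod_subset (Finset.subset_univ I) (f := fun i : Fin n =>
            (uL b : Matrix (Fin 2) (Fin 2) F) (if i ∈ I then 0 else 1) 1 ^ 2 ^ (i : ℕ)) (fun i _ hi => by simp [uL, hi]) |>.symm]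
        refine Finset.prod_congr rfl fun i hi => by simp [uL, hi]
      · intro a _ ha; simp [Pi.single_eq_of_ne ha]
      · intro h; exact absurd (Finset.mem_univ _) h
    have hmem : (fun b : F => P.eval b) ∈ LinearMap.range Φ := by
      have e : (fun b : F => P.eval b) = ∑ s ∈ Finset.range (2 ^ n), P.coeff s • fun b : F => b ^ s :=
        funext fun b => by simp [Polynomial.eval_eq_sum_range' (hF ▸ hP) b]
      rw [e]
      exact Submodule.sum_mem _ fun s hs => Submodule.smul_mem _ _ (hmon s (Finset.mem_range.1 hs))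
    obtain ⟨c, hc⟩ := hmem
    refine ⟨c, ?_⟩
    rintro ⟨_, b, rfl⟩
    exact (hPf b).symm.trans (congrFun hc b).symm
  witness := by
    refine ⟨gL, 3, Pi.single 0 1, Pi.single 0 1, Pi.single 1 1,
      by decide, ?_, fun h => ?_, ?_, ?_, ?_⟩
    · ext i j
      simp only [Matrix.SpecialLinearGroup.coe_mul, Matrix.SpecialLinearGroup.coe_pow, Matrix.SpecialLinearGroup.coe_one]
      fin_cases i <;> fin_cases j <;>
        simp [pow_succ, coe_gL, Matrix.mul_apply, Fin.sum_univ_two, CharTwo.add_self_eq_zero]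
    · have := congrFun (congrFun (congrArg Subtype.val h) 0) 1
      simp [coe_gL] at this
    · intro j hj; interval_cases j <;>
        simp [pow_succ, coe_gL, Matrix.mul_apply, Fin.sum_univ_two, CharTwo.add_self_eq_zero]
    · intro j hj; interval_cases j <;>
        simp [pow_succ, coe_gL, Matrix.mul_apply, Fin.sum_univ_two, CharTwo.add_self_eq_zero]
    · simp [Finset.sum_range_succ, pow_succ, coe_gL, Matrix.mul_apply, Fin.sum_univ_two, CharTwo.add_self_eq_zero]

end Cfsg.Agent.Lie.FPFTop
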