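import Cfsg.Agent.Lib.Lie.FPFTop.InstLinear
import Cfsg.Agent.Lib.Lie.SuzukiSylow

/-!
# The Suzuki group as a rank-one structure with natural module
-/

set_option autoImplicit false
set_option linter.unusedSectionVars false
set_option linter.unusedSimpArgs false

namespace Cfsg.Agent.Lie.FPFTop


variable {F : Type*} [Field F] [Fintype F] [DecidableEq F] [CharP F 2] {m : ℕ}
  (hF : Fintype.card F = 2 ^ (2 * m + 1))

/-- The rank-one structure. -/
def suzukiR (hm : 1 ≤ m) : RankOne F (Cfsg.Sz F m) where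
  U := Suzuki.uSub hF
  h := Suzuki.dS hF
  w := Suzuki.wS hF
  two := Suzuki.uSub_isPGroup hF
  norm := by
    rintro x _ ⟨a, b, rfl⟩
    exact ⟨_, _, by rw [Suzuki.dS_mul_tS hF hm, mul_inv_cancel_right]⟩
  flip x := by
    refine Subtype.ext ?_
    show Suzuki.wM F * Suzuki.dM m x = Suzuki.dM m x⁻¹ * Suzuki.wM F
    rw [← Suzuki.wM_dM_wM x, mul_assoc _ (Suzuki.wM F) (Suzuki.wM F), Suzuki.wM_mul_self, mul_one]
  decomp g := by
    rcases Suzuki.sz_decomp hF hm g with ⟨a, b, k, rfl⟩ | ⟨a, b, c, d, k, rfl⟩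
    · exact Or.inl ⟨_, ⟨a, b, rfl⟩, k, rfl⟩
    · exact Or.inr ⟨_, ⟨a, b, rfl⟩, _, ⟨c, d, rfl⟩, k, by simp only [mul_assoc]⟩

/-- The coercion of Suzuki elements to matrices. -/
def szM : Cfsg.Sz F m →* Matrix (Fin 4) (Fin 4) F where
  toFun g := (g.1 : Matrix (Fin 4) (Fin 4) F)
  map_one' := rfl
  map_mul' _ _ := rfl

section Monomials

variable {n : ℕ} [NeZero n]

/-- Product of twisted powers. -/
def mon (I : Multiset (Fin n)) (x : F) : F := (I.map fun i : Fin n => x ^ 2 ^ (i : ℕ)).prod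

theorem pow_mod_period (hn : Fintype.card F = 2 ^ n) (x : F) (k : ℕ) : x ^ 2 ^ (k % n) = x ^ 2 ^ k := by
  conv_rhs => rw [← Nat.mod_add_div k n, pow_add, pow_mul]
  rw [pow_mul, ← hn, FiniteField.pow_card_pow]

theorem pw_add (hn : Fintype.card F = 2 ^ n) (x : F) (i j : Fin n) :
    x ^ 2 ^ ((i + j : Fin n) : ℕ) = (x ^ 2 ^ (i : ℕ)) ^ 2 ^ (j : ℕ) := by
  rw [Fin.val_add, pow_mod_period hn, ← pow_mul, ← pow_add]

theorem pw_succ (hn : Fintype.card F = 2 ^ n) (x : F) (i : Fin n) :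
    x ^ 2 ^ ((i + Fin.ofNat n 1 : Fin n) : ℕ) = (x ^ 2 ^ (i : ℕ)) ^ 2 := by
  rw [pw_add hn, Fin.val_ofNat, pow_mod_period hn, pow_one]

theorem mon_cons (I : Multiset (Fin n)) (i : Fin n) (x : F) : mon (i ::ₘ I) x = x ^ 2 ^ (i : ℕ) * mon I x := by
  simp [mon]

theorem mon_val (S : Finset (Fin n)) (x : F) : mon S.1 x = ∏ i ∈ S, x ^ 2 ^ (i : ℕ) :=
  (Finset.prod_eq_multiset_prod _ _).symm

end Monomials

/-- The index choosing the coordinates. -/
def pick {n : ℕ} (I J L : Finset (Fin n)) : Fin n → Fin 4 := fun i =>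
  if i ∈ L then 0 else if i ∈ J then 1 else if i ∈ I then 2 else 3

theorem prod_pick {n : ℕ} {I J L : Finset (Fin n)} (hIJ : Disjoint I J) (hIL : Disjoint I L)
    (hJL : Disjoint J L) (v : Fin 4 → F) (h3 : v 3 = 1) :
    ∏ i, v (pick I J L i) ^ 2 ^ (i : ℕ) =
      (∏ i ∈ I, v 2 ^ 2 ^ (i : ℕ)) * (∏ i ∈ J, v 1 ^ 2 ^ (i : ℕ)) * ∏ i ∈ L, v 0 ^ 2 ^ (i : ℕ) := by
  have e : ∀ i : Fin n, v (pick I J L i) ^ 2 ^ (i : ℕ) = (if i ∈ I then v 2 ^ 2 ^ (i : ℕ) else 1) *
      (if i ∈ J then v 1 ^ 2 ^ (i : ℕ) else 1) * (if i ∈ L then v 0 ^ 2 ^ (i : ℕ) else 1) := by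
    intro i
    unfold pick
    by_cases hL : i ∈ L
    · simp [hL, Finset.disjoint_right.1 hIL hL, Finset.disjoint_right.1 hJL hL]
    by_cases hJ : i ∈ J
    · simp [hL, hJ, Finset.disjoint_right.1 hIJ hJ]
    by_cases hI : i ∈ I <;> simp [hL, hJ, hI, h3]
  simp only [e, Finset.prod_mul_distrib, Finset.prod_ite_mem, Finset.univ_inter]

include hF in
/-- All monomials lie in a space containing the twisted products of coordinates. -/
theorem mon_mem {n : ℕ} [NeZero n] (hn : n = 2 * m + 1) (P : Submodule F (F × F → F))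
    (hP : ∀ I J L : Finset (Fin n), Disjoint I J → Disjoint I L → Disjoint J L →
      (fun p => mon I.1 p.1 * mon J.1 p.2 * mon L.1 (Suzuki.fv m p.1 p.2)) ∈ P) :
    ∀ I J L : Multiset (Fin n), (fun p : F × F => mon I p.1 * mon J p.2 * mon L (Suzuki.fv m p.1 p.2)) ∈ P := by
  have hc : Fintype.card F = 2 ^ n := hn ▸ hF
  suffices H : ∀ k : ℕ × ℕ × ℕ, ∀ I J L : Multiset (Fin n),
      toLex (J.card + L.card, toLex (I.card, L.card)) = toLex (k.1, toLex (k.2.1, k.2.2)) →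
      (fun p : F × F => mon I p.1 * mon J p.2 * mon L (Suzuki.fv m p.1 p.2)) ∈ P from
    fun I J L => H (J.card + L.card, I.card, L.card) I J L rfl
  intro k
  induction k using (InvImage.wf (fun k : ℕ × ℕ × ℕ => toLex (k.1, toLex (k.2.1, k.2.2)))
    wellFounded_lt).induction with
  | _ k ih =>
  intro I J L hk
  have hrec : ∀ I' J' L' : Multiset (Fin n),
      toLex (J'.card + L'.card, toLex (I'.card, L'.card)) < toLex (k.1, toLex (k.2.1, k.2.2)) →
      (fun p : F × F => mon I' p.1 * mon J' p.2 * mon L' (Suzuki.fv m p.1 p.2)) ∈ P :=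
    fun I' J' L' h => ih (J'.card + L'.card, I'.card, L'.card) h I' J' L' rfl
  rw [← hk] at hrec
  let σ : Fin n → Fin n := fun i => i + Fin.ofNat n 1
  let τ : Fin n → Fin n := fun i => i + Fin.ofNat n (m + 1)
  have hσ : ∀ (x : F) i, x ^ 2 ^ (σ i : ℕ) = (x ^ 2 ^ (i : ℕ)) ^ 2 := fun x i => pw_succ hc x i
  have hτ : ∀ (x : F) (i : Fin n), x ^ 2 ^ (τ i : ℕ) = x ^ (2 ^ (m + 1) * 2 ^ (i : ℕ)) := fun x i => by
    rw [pw_add hc, Fin.val_ofNat, pow_mod_period hc, ← pow_mul, mul_comm]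
  have hg : ∀ (a b : F) (i : Fin n), Suzuki.fv m a b ^ 2 ^ (i : ℕ) =
      a ^ 2 ^ (i : ℕ) * b ^ 2 ^ (i : ℕ) + a ^ 2 ^ (τ i : ℕ) * a ^ 2 ^ (σ i : ℕ) + b ^ 2 ^ (τ i : ℕ) := by
    intro a b i
    rw [Suzuki.fv, add_pow_char_pow, add_pow_char_pow, mul_pow, hτ, hτ, hσ, pow_add a, mul_pow, ← pow_mul,
      ← pow_mul, ← pow_mul, ← pow_mul, Nat.mul_comm 2 (2 ^ (i : ℕ))]
  have lt1 : ∀ {a b c a' b' c' : ℕ}, a < a' → toLex (a, toLex (b, c)) < toLex (a', toLex (b', c')) :=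
    fun h => Prod.Lex.toLex_lt_toLex.2 (Or.inl h)
  have lt2 : ∀ {a b c a' b' c' : ℕ}, a = a' → b < b' → toLex (a, toLex (b, c)) < toLex (a', toLex (b', c')) :=
    fun h h' => Prod.Lex.toLex_lt_toLex.2 (Or.inr ⟨h, Prod.Lex.toLex_lt_toLex.2 (Or.inl h')⟩)
  have lt3 : ∀ {a b c a' b' c' : ℕ}, a = a' → b = b' → c < c' → toLex (a, toLex (b, c)) < toLex (a', toLex (b', c')) :=
    fun h h' h'' => Prod.Lex.toLex_lt_toLex.2 (Or.inr ⟨h, Prod.Lex.toLex_lt_toLex.2 (Or.inr ⟨h', h''⟩)⟩)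
  by_cases hI : I.Nodup
  swap
  · obtain ⟨i, hi⟩ : ∃ i, i ::ₘ i ::ₘ 0 ≤ I := by simpa [Multiset.nodup_iff_le] using hI
    obtain ⟨I', rfl⟩ := Multiset.le_iff_exists_add.1 hi
    have h := hrec (σ i ::ₘ I') J L (lt2 rfl (by simp <;> omega))
    convert h using 1
    funext p
    simp only [Multiset.cons_add, zero_add, mon_cons, hσ]
    ring
  by_cases hJ : J.Nodup
  swap
  · obtain ⟨i, hi⟩ : ∃ i, i ::ₘ i ::ₘ 0 ≤ J := by simpa [Multiset.nodup_iff_le] using hJ
    obtain ⟨J', rfl⟩ := Multiset.le_iff_exists_add.1 hi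
    have h := hrec I (σ i ::ₘ J') L (lt1 (by simp <;> omega))
    convert h using 1
    funext p
    simp only [Multiset.cons_add, zero_add, mon_cons, hσ]
    ring
  by_cases hL : L.Nodup
  swap
  · obtain ⟨i, hi⟩ : ∃ i, i ::ₘ i ::ₘ 0 ≤ L := by simpa [Multiset.nodup_iff_le] using hL
    obtain ⟨L', rfl⟩ := Multiset.le_iff_exists_add.1 hi
    have h := hrec I J (σ i ::ₘ L') (lt1 (by simp <;> omega))
    convert h using 1
    funext p
    simp only [Multiset.cons_add, zero_add, mon_cons, hσ]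
    ring
  by_cases hIL : ∃ i ∈ I, i ∈ L
  · obtain ⟨i, hiI, hiL⟩ := hIL
    obtain ⟨I', rfl⟩ := Multiset.exists_cons_of_mem hiI
    obtain ⟨L', rfl⟩ := Multiset.exists_cons_of_mem hiL
    have h1 := hrec (σ i ::ₘ I') (i ::ₘ J) L' (lt3 (by simp <;> omega) (by simp) (by simp))
    have h2 := hrec (i ::ₘ τ i ::ₘ σ i ::ₘ I') J L' (lt1 (by simp <;> omega))
    have h3 := hrec (i ::ₘ I') (τ i ::ₘ J) L' (lt3 (by simp <;> omega) (by simp) (by simp))
    convert P.add_mem (P.add_mem h1 h2) h3 using 1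
    funext p
    simp only [Pi.add_apply, mon_cons, hg, hσ]
    ring
  by_cases hJL : ∃ i ∈ J, i ∈ L
  · obtain ⟨i, hiJ, hiL⟩ := hJL
    obtain ⟨J', rfl⟩ := Multiset.exists_cons_of_mem hiJ
    obtain ⟨L', rfl⟩ := Multiset.exists_cons_of_mem hiL
    have h1 := hrec (i ::ₘ I) (σ i ::ₘ J') L' (lt1 (by simp <;> omega))
    have h2 := hrec (τ i ::ₘ σ i ::ₘ I) (i ::ₘ J') L' (lt1 (by simp <;> omega))
    have h3 := hrec I (τ i ::ₘ i ::ₘ J') L' (lt3 (by simp <;> omega) rfl (by simp))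
    convert P.add_mem (P.add_mem h1 h2) h3 using 1
    funext p
    simp only [Pi.add_apply, mon_cons, hg, hσ]
    ring
  by_cases hIJ : ∃ i ∈ I, i ∈ J
  · obtain ⟨i, hiI, hiJ⟩ := hIJ
    obtain ⟨I', rfl⟩ := Multiset.exists_cons_of_mem hiI
    obtain ⟨J', rfl⟩ := Multiset.exists_cons_of_mem hiJ
    have h1 := hrec I' J' (i ::ₘ L) (lt2 (by simp <;> omega) (by simp))
    have h2 := hrec (τ i ::ₘ σ i ::ₘ I') J' L (lt1 (by simp))
    have h3 := hrec I' (τ i ::ₘ J') L (lt2 (by simp <;> omega) (by simp))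
    convert P.add_mem (P.add_mem h1 h2) h3 using 1
    funext p
    simp only [Pi.add_apply, mon_cons, hg, hσ]
    linear_combination (-(mon I' p.1 * mon J' p.2 * mon L (Suzuki.fv m p.1 p.2)) *
      (p.1 ^ 2 ^ (τ i : ℕ) * (p.1 ^ 2 ^ (i : ℕ)) ^ 2 + p.2 ^ 2 ^ (τ i : ℕ))) * CharTwo.two_eq_zero (R := F)
  push Not at hIJ hIL hJL
  exact hP ⟨I, hI⟩ ⟨J, hJ⟩ ⟨L, hL⟩ (Finset.disjoint_left.2 hIJ) (Finset.disjoint_left.2 hIL)
    (Finset.disjoint_left.2 hJL)

/-- Every function of two variables is a combination of monomials. -/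
theorem exists_two_poly (f : F × F → F) :
    f ∈ Submodule.span F (Set.range fun st : Fin (Fintype.card F) × Fin (Fintype.card F) =>
      fun p : F × F => p.1 ^ (st.1 : ℕ) * p.2 ^ (st.2 : ℕ)) := by
  classical
  choose P hP hPf using fun b : F => exists_poly (fun a => f (a, b))
  choose Q hQ hQf using fun s : Fin (Fintype.card F) => exists_poly (fun b => (P b).coeff s)
  have e : f = ∑ s : Fin (Fintype.card F), ∑ t : Fin (Fintype.card F),
      (Q s).coeff t • fun p : F × F => p.1 ^ (s : ℕ) * p.2 ^ (t : ℕ) := by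
    funext ⟨a, b⟩
    simp only [Finset.sum_apply, Pi.smul_apply, smul_eq_mul]
    rw [← hPf b a, Polynomial.eval_eq_sum_range' (hP b), ← Fin.sum_univ_eq_sum_range]
    refine Finset.sum_congr rfl fun s _ => ?_
    rw [← hQf s b, Polynomial.eval_eq_sum_range' (hQ s), ← Fin.sum_univ_eq_sum_range, Finset.sum_mul]
    exact Finset.sum_congr rfl fun t _ => by ring
  rw [e]
  exact Submodule.sum_mem _ fun s _ => Submodule.sum_mem _ fun t _ => Submodule.smul_mem _ _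
    (Submodule.subset_span ⟨(s, t), rfl⟩)

/-- An element of order five over the field with two elements. -/
def g5 : Matrix (Fin 4) (Fin 4) (ZMod 2) := !![1, 1, 0, 1; 1, 0, 1, 0; 0, 1, 0, 0; 1, 0, 0, 0]

theorem tw_eq : szM (Suzuki.tS (m := m) hF 0 1 * Suzuki.wS hF) = g5.map (ZMod.castHom (dvd_refl 2) F) := by
  show ((Suzuki.tM m 0 1 * Suzuki.wM F : Matrix.SpecialLinearGroup (Fin 4) F) : Matrix (Fin 4) (Fin 4) F) = _
  rw [Matrix.SpecialLinearGroup.coe_mul]
  have hθ : (2 : ℕ) ^ (m + 1) ≠ 0 := by positivity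
  ext i j
  fin_cases i <;> fin_cases j <;>
    simp [g5, Suzuki.tM, Suzuki.tMat, Suzuki.wM, Suzuki.fv, Matrix.mul_apply, Fin.sum_univ_four, zero_pow hθ]

theorem tw_pow (j : ℕ) : szM ((Suzuki.tS (m := m) hF 0 1 * Suzuki.wS hF) ^ j) =
    (g5 ^ j).map (ZMod.castHom (dvd_refl 2) F) := by
  rw [map_pow, tw_eq, ← RingHom.mapMatrix_apply, ← RingHom.mapMatrix_apply, map_pow]

/-- The natural module. -/
noncomputable def suzukiA (hm : 1 ≤ m) : Natural (suzukiR hF hm) (Fin 4) (2 * m + 1) where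
  M := szM
  hi := 0
  lo := 3
  wt := 2 ^ m + 1
  hne := by decide
  card := hF
  cardU := by
    show Nat.card (Suzuki.uSub (m := m) hF) = _
    rw [Suzuki.card_uSub hF, hF, Fintype.card_fin, ← pow_mul, show (4 : ℕ) = 2 ^ 2 by norm_num, ← pow_mul, mul_comm]
  cop := by
    refine Nat.coprime_of_dvd' fun p hp h1 h2 => ?_
    have h3 : p ∣ 2 ^ (2 * m) - 1 := by
      refine h1.trans ⟨2 ^ m - 1, ?_⟩
      have := Nat.sq_sub_sq (2 ^ m) 1
      rw [one_pow, ← pow_mul, mul_comm m 2] at this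
      exact this
    have h4 : 2 ^ (2 * m + 1) - 1 = 2 * (2 ^ (2 * m) - 1) + 1 := by
      have := Nat.one_le_two_pow (n := 2 * m)
      rw [pow_succ]
      omega
    rw [h4] at h2
    exact (Nat.dvd_add_right (dvd_mul_of_dvd_right h3 2)).1 h2
  colU := by
    rintro _ ⟨a, b, rfl⟩ i
    show Suzuki.tMat m a b i 0 = _
    fin_cases i <;> simp [Suzuki.tMat]
  rowU := by
    rintro _ ⟨a, b, rfl⟩
    show Suzuki.tMat m a b 3 3 = 1
    simp [Suzuki.tMat]
  colw a := by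
    show (Suzuki.wM F : Matrix (Fin 4) (Fin 4) F) a 0 = _
    fin_cases a <;> simp [Suzuki.wM]
  colh x a := by
    show (Suzuki.dM m x : Matrix (Fin 4) (Fin 4) F) a 0 = _
    fin_cases a <;> simp [Suzuki.dM]
  span f := by
    classical
    let Φ : ((Fin (2 * m + 1) → Fin 4) → F) →ₗ[F] (F × F → F) :=
      { toFun := fun c p => ∑ a, c a * ∏ i, Suzuki.tMat m p.1 p.2 (a i) 3 ^ 2 ^ (i : ℕ)
        map_add' := fun c d => funext fun b => by simp [add_mul, Finset.sum_add_distrib]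
        map_smul' := fun r c => funext fun b => by simp [Finset.mul_sum, mul_assoc] }
    have hbase : ∀ I J L : Finset (Fin (2 * m + 1)), Disjoint I J → Disjoint I L → Disjoint J L →
        (fun p : F × F => mon I.1 p.1 * mon J.1 p.2 * mon L.1 (Suzuki.fv m p.1 p.2)) ∈ LinearMap.range Φ := by
      intro I J L h1 h2 h3
      refine ⟨Pi.single (pick I J L) 1, funext fun p => ?_⟩
      show ∑ a, _ = _
      rw [Finset.sum_eq_single (pick I J L)]
      · rw [Pi.single_eq_same, one_mul,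
          prod_pick h1 h2 h3 (fun r => Suzuki.tMat m p.1 p.2 r 3) (by simp [Suzuki.tMat]), mon_val, mon_val, mon_val]
        simp [Suzuki.tMat]
      · intro a _ ha; simp [Pi.single_eq_of_ne ha]
      · intro h; exact absurd (Finset.mem_univ _) h
    have hle : Submodule.span F (Set.range fun st : Fin (Fintype.card F) × Fin (Fintype.card F) =>
        fun p : F × F => p.1 ^ (st.1 : ℕ) * p.2 ^ (st.2 : ℕ)) ≤ LinearMap.range Φ := by
      rw [Submodule.span_le]
      rintro _ ⟨⟨s, t⟩, rfl⟩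
      obtain ⟨I, hI⟩ := exists_bits (2 * m + 1) s (hF ▸ s.2)
      obtain ⟨J, hJ⟩ := exists_bits (2 * m + 1) t (hF ▸ t.2)
      have h := mon_mem hF rfl (LinearMap.range Φ) hbase I.1 J.1 0
      have e1 : ∀ x : F, mon I.1 x = x ^ (s : ℕ) := fun x => by rw [mon_val, Finset.prod_pow_eq_pow_sum, hI]
      have e2 : ∀ x : F, mon J.1 x = x ^ (t : ℕ) := fun x => by rw [mon_val, Finset.prod_pow_eq_pow_sum, hJ]
      simp only [e1, e2] at h
      simp only [mon, Multiset.map_zero, Multiset.prod_zero, mul_one] at h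
      exact h
    obtain ⟨c, hc⟩ := hle (exists_two_poly fun p : F × F => f ⟨Suzuki.tS hF p.1 p.2, p.1, p.2, rfl⟩)
    refine ⟨c, ?_⟩
    rintro ⟨_, a, b, rfl⟩
    exact (congrFun hc (a, b)).symm
  witness := by
    have hθ : (2 : ℕ) ^ (m + 1) ≠ 0 := by positivity
    refine ⟨Suzuki.tS hF 0 1 * Suzuki.wS hF, 5, Pi.single 0 1, Pi.single 0 1, Pi.single 3 1, by decide, ?_, ?_, ?_, ?_, ?_⟩
    · refine Subtype.ext (Subtype.ext ?_)
      show szM ((Suzuki.tS (m := m) hF 0 1 * Suzuki.wS hF) ^ 5) = 1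
      rw [tw_pow, show g5 ^ 5 = 1 by decide +kernel, Matrix.map_one _ (map_zero _) (map_one _)]
    · intro h
      have e := congrArg szM h
      rw [tw_eq, map_one] at e
      have := congrFun (congrFun e 0) 1
      simp [g5] at this
    · intro j hj
      rw [single_dotProduct, one_mul, Matrix.mulVec_single_one, Matrix.col_apply, tw_pow, Matrix.map_apply]
      rcases (by decide : ∀ x : ZMod 2, x = 0 ∨ x = 1) ((g5 ^ j) 0 0) with e | e <;> simp [e]
    · intro j hj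
      rw [single_dotProduct, one_mul, Matrix.mulVec_single_one, Matrix.col_apply, tw_pow, Matrix.map_apply]
      rcases (by decide : ∀ x : ZMod 2, x = 0 ∨ x = 1) ((g5 ^ j) 3 0) with e | e <;> simp [e]
    · simp only [single_dotProduct, one_mul, Matrix.mulVec_single_one, Matrix.col_apply, tw_pow, Matrix.map_apply,
        ← map_mul, ← map_sum]
      rw [show ∑ j ∈ Finset.range 5, (g5 ^ j) 0 0 * (g5 ^ j) 3 0 = 1 by decide +kernel, map_one]

end Cfsg.Agent.Lie.FPFTop
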