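import Cfsg.Agent.Lib.Lie.FPFTop.Basic

/-!
# Simple modules of a group with a split rank-one structure

A simple module is determined by the weight of a vector fixed by the unipotent subgroup.
-/

set_option autoImplicit false
set_option linter.unusedSectionVars false

namespace Cfsg.Agent.Lie.FPFTop

universe u v v'

/-- A split rank-one structure with torus parametrised by the units of a field. -/
structure RankOne (F : Type*) [Field F] (G : Type u) [Group G] where
  U : Subgroup G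
  h : Fˣ →* G
  w : G
  two : IsPGroup 2 U
  norm : ∀ x : Fˣ, ∀ y ∈ U, h x * y * (h x)⁻¹ ∈ U
  flip : ∀ x : Fˣ, w * h x = h x⁻¹ * w
  decomp : ∀ g : G, (∃ y ∈ U, ∃ x, g = y * h x) ∨ ∃ y ∈ U, ∃ y' ∈ U, ∃ x, g = y * w * y' * h x

variable {F : Type*} [Field F] [Fintype F] [DecidableEq F] {G : Type u} [Group G] (R : RankOne F G)

theorem RankOne.norm' (x : Fˣ) {y : G} (hy : y ∈ R.U) : (R.h x)⁻¹ * y * R.h x ∈ R.U := by
  have := R.norm x⁻¹ y hy
  simpa [map_inv] using this

/-- The Borel subgroup. -/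
def RankOne.B : Subgroup G where
  carrier := {g | ∃ y ∈ R.U, ∃ x, g = y * R.h x}
  one_mem' := ⟨1, one_mem _, 1, by simp⟩
  mul_mem' := by
    rintro _ _ ⟨y, hy, x, rfl⟩ ⟨y', hy', x', rfl⟩
    exact ⟨y * (R.h x * y' * (R.h x)⁻¹), mul_mem hy (R.norm x y' hy'), x * x', by rw [map_mul]; group⟩
  inv_mem' := by
    rintro _ ⟨y, hy, x, rfl⟩
    exact ⟨(R.h x)⁻¹ * y⁻¹ * R.h x, R.norm' x (inv_mem hy), x⁻¹, by rw [map_inv]; group⟩

/-- Functions transforming by a character of the Borel subgroup on the right. -/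
def RankOne.Cov (μ : ℕ) (f : G → F) : Prop :=
  ∀ g, (∀ y ∈ R.U, f (g * y) = f g) ∧ ∀ x : Fˣ, f (g * R.h x) = (x : F) ^ μ * f g

variable {V : Type v} [AddCommGroup V] [Module F V] (ρ : G →* Module.End F V)

/-- The matrix coefficient of a vector and a functional. -/
def coef (v : V) (l : Module.Dual F V) : G → F := fun g => l (ρ g v)

theorem coef_cov {μ : ℕ} {v : V} (hv : ∀ y ∈ R.U, ρ y v = v) (hw : IsWt R.h ρ μ v) (l : Module.Dual F V) :
    R.Cov μ (coef ρ v l) := fun g => by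
  refine ⟨fun y hy => ?_, fun x => ?_⟩
  · simp only [coef, apply_mul, hv y hy]
  · simp only [coef, apply_mul, hw x, map_smul, smul_eq_mul]

/-- A left invariant eigenfunction vanishes on one of the two cells. -/
theorem cell_dichotomy {μ ν : ℕ} (hμ : ∃ x : Fˣ, (x : F) ^ (2 * μ) ≠ 1) {f : G → F} (hf : R.Cov μ f)
    (hl : ∀ y ∈ R.U, ∀ g, f (y * g) = f g) (he : ∀ x : Fˣ, ∀ g, f ((R.h x)⁻¹ * g) = (x : F) ^ ν * f g) :
    f 1 = 0 ∨ f R.w = 0 := by
  by_contra hc
  push Not at hc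
  obtain ⟨h1, hw⟩ := hc
  obtain ⟨x, hx⟩ := hμ
  have e1 : ((x : F) ^ μ)⁻¹ = (x : F) ^ ν := by
    have := he x 1
    rw [mul_one, ← map_inv, show R.h x⁻¹ = 1 * R.h x⁻¹ from (one_mul _).symm, (hf 1).2 x⁻¹] at this
    rw [Units.val_inv_eq_inv_val, inv_pow] at this
    exact mul_right_cancel₀ h1 this
  have e2 : (x : F) ^ μ = (x : F) ^ ν := by
    have := he x R.w
    rw [← map_inv, show R.h x⁻¹ * R.w = R.w * R.h x from (R.flip x).symm, (hf R.w).2 x] at this
    exact mul_right_cancel₀ hw this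
  refine hx ?_
  rw [two_mul, pow_add]
  conv_lhs => arg 2; rw [e2, ← e1]
  exact mul_inv_cancel₀ (pow_ne_zero _ x.ne_zero)

theorem eq_of_cells {μ : ℕ} {f f' : G → F} (hf : R.Cov μ f) (hf' : R.Cov μ f')
    (hl : ∀ y ∈ R.U, ∀ g, f (y * g) = f g) (hl' : ∀ y ∈ R.U, ∀ g, f' (y * g) = f' g)
    (h1 : f 1 = f' 1) (hw : f R.w = f' R.w) : f = f' := by
  funext g
  rcases R.decomp g with ⟨y, hy, x, rfl⟩ | ⟨y, hy, y', hy', x, rfl⟩
  · rw [(hf y).2 x, (hf' y).2 x, ← mul_one y, hl y hy, hl' y hy, h1]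
  · rw [(hf _).2 x, (hf' _).2 x, (hf _).1 y' hy', (hf' _).1 y' hy', hl y hy, hl' y hy, hw]

/-- A function supported on the Borel cell generates all covariant functions. -/
theorem coef_surj [Finite G] {μ : ℕ} {v : V} (hv : ∀ y ∈ R.U, ρ y v = v) (hw : IsWt R.h ρ μ v)
    {l : Module.Dual F V} (hl : ∀ y ∈ R.U, ∀ g, coef ρ v l (y * g) = coef ρ v l g)
    (h1 : coef ρ v l 1 ≠ 0) (h0 : coef ρ v l R.w = 0) {f' : G → F} (hf' : R.Cov μ f') :
    ∃ l', coef ρ v l' = f' := by
  classical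
  haveI : Fintype (G ⧸ R.B) := Fintype.ofFinite _
  have hcov := coef_cov R ρ hv hw l
  set f := coef ρ v l with hf
  refine ⟨(f 1)⁻¹ • ∑ r : G ⧸ R.B, f' r.out • dual ρ r.out l, funext fun g => ?_⟩
  simp only [coef, LinearMap.smul_apply, LinearMap.sum_apply, smul_eq_mul]
  rw [Finset.sum_eq_single (g : G ⧸ R.B)]
  · obtain ⟨b, hb⟩ := QuotientGroup.mk_out_eq_mul R.B g
    obtain ⟨y, hy, x, hyx⟩ := R.B.inv_mem b.2
    rw [hb]
    have e1 : f' (g * b) = ((x : F) ^ μ)⁻¹ * f' g := by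
      have h2 : g * ↑b * y * R.h x = g := by rw [mul_assoc (g * ↑b) y, ← hyx, mul_inv_cancel_right]
      have := (hf' (g * ↑b * y)).2 x
      rw [h2, (hf' (g * ↑b)).1 y hy] at this
      rw [this, ← mul_assoc, inv_mul_cancel₀ (pow_ne_zero _ x.ne_zero), one_mul]
    have e2 : (dual ρ (g * ↑b)) l (ρ g v) = (x : F) ^ μ * f 1 := by
      show l (ρ (g * ↑b)⁻¹ (ρ g v)) = _
      rw [← apply_mul, mul_inv_rev, inv_mul_cancel_right, hyx]
      show f (y * R.h x) = _
      rw [(hcov y).2 x, ← mul_one y, hl y hy]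
    rw [e1, e2]
    have := pow_ne_zero μ x.ne_zero
    field_simp
  · intro r _ hr
    refine mul_eq_zero_of_right _ ?_
    show l (ρ r.out⁻¹ (ρ g v)) = 0
    rw [← apply_mul]
    show f (r.out⁻¹ * g) = 0
    rcases R.decomp (r.out⁻¹ * g) with ⟨y, hy, x, e⟩ | ⟨y, hy, y', hy', x, e⟩
    · refine absurd ?_ hr
      rw [← QuotientGroup.out_eq' r]
      exact QuotientGroup.eq.2 ⟨y, hy, x, e⟩
    · rw [e, (hcov _).2 x, (hcov _).1 y' hy', hl y hy, h0, mul_zero]
  · intro hn; exact absurd (Finset.mem_univ _) hn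

theorem span_orbit (hs : Simple ρ) {v : V} (hv : v ≠ 0) : Submodule.span F (Set.range fun g => ρ g v) = ⊤ := by
  refine (hs.2 _ ?_).resolve_left fun h => hv ?_
  · intro g w hw
    have hle : (Submodule.span F (Set.range fun g => ρ g v)).map (ρ g) ≤
        Submodule.span F (Set.range fun g => ρ g v) := by
      rw [Submodule.map_span_le]
      rintro _ ⟨g', rfl⟩
      exact Submodule.subset_span ⟨g * g', apply_mul ρ g g' v⟩
    exact hle ⟨w, hw, rfl⟩
  · have := Submodule.subset_span (R := F) (show v ∈ Set.range fun g => ρ g v from ⟨1, apply_one ρ v⟩)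
    rwa [h, SetLike.mem_coe, Submodule.mem_bot] at this

theorem coef_eq_zero (hs : Simple ρ) {v : V} (hv : v ≠ 0) {l : Module.Dual F V} (h : coef ρ v l = 0) : l = 0 := by
  refine LinearMap.ext_on_range (span_orbit ρ hs hv) fun g => ?_
  exact congrFun h g

/-- The dual contains a nonzero coefficient function, invariant on the left and an eigenfunction. -/
theorem exists_left [Finite G] [Finite V] [CharP F 2] (hs : Simple ρ) {v : V} (hv : v ≠ 0) {μ : ℕ}
    (hfix : ∀ y ∈ R.U, ρ y v = v) (hw : IsWt R.h ρ μ v) (hμ : ∃ x : Fˣ, (x : F) ^ (2 * μ) ≠ 1) :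
    ∃ l : Module.Dual F V, coef ρ v l ≠ 0 ∧ (∀ y ∈ R.U, ∀ g, coef ρ v l (y * g) = coef ρ v l g) ∧
      (coef ρ v l 1 = 0 ∧ coef ρ v l R.w ≠ 0 ∨ coef ρ v l 1 ≠ 0 ∧ coef ρ v l R.w = 0) := by
  classical
  haveI : Finite (Module.Dual F V) := Finite.of_injective _ (DFunLike.coe_injective (F := Module.Dual F V))
  haveI : Nontrivial (Module.Dual F V) := by
    haveI := hs.1
    infer_instance
  obtain ⟨l, ν, hl0, hlw, hlU⟩ := exists_fixed_wt R.h (dual ρ) R.U R.two fun x u hu => R.norm' x hu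
  have hl : ∀ y ∈ R.U, ∀ g, coef ρ v l (y * g) = coef ρ v l g := by
    intro y hy g
    conv_rhs => rw [← hlU y⁻¹ (inv_mem hy)]
    show _ = l (ρ y⁻¹⁻¹ (ρ g v))
    rw [inv_inv, ← apply_mul]; rfl
  have he : ∀ x : Fˣ, ∀ g, coef ρ v l ((R.h x)⁻¹ * g) = (x : F) ^ ν * coef ρ v l g := by
    intro x g
    have := congrArg (fun f : Module.Dual F V => f (ρ g v)) (hlw x)
    simp only [coef]
    rw [apply_mul]
    exact this
  have hne : coef ρ v l ≠ 0 := fun h => hl0 (coef_eq_zero ρ hs hv h)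
  refine ⟨l, hne, hl, ?_⟩
  have hc := coef_cov R ρ hfix hw l
  have hboth : ¬ (coef ρ v l 1 = 0 ∧ coef ρ v l R.w = 0) := fun h =>
    hne (eq_of_cells R hc (fun g => ⟨fun _ _ => rfl, fun x => (mul_zero _).symm⟩) hl (fun _ _ _ => rfl) h.1 h.2)
  rcases cell_dichotomy R hμ hc hl he with h | h
  · exact Or.inl ⟨h, fun h' => hboth ⟨h, h'⟩⟩
  · exact Or.inr ⟨fun h' => hboth ⟨h', h⟩, h⟩

variable {V' : Type v'} [AddCommGroup V'] [Module F V'] (ρ' : G →* Module.End F V')

/-- Simple modules with the same weight on a fixed vector are isomorphic. -/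
theorem exists_equiv [Finite G] [Finite V] [Finite V'] [CharP F 2] (hs : Simple ρ) (hs' : Simple ρ')
    {μ : ℕ} (hμ : ∃ x : Fˣ, (x : F) ^ (2 * μ) ≠ 1)
    {v : V} (hv : v ≠ 0) (hfix : ∀ y ∈ R.U, ρ y v = v) (hw : IsWt R.h ρ μ v)
    {v' : V'} (hv' : v' ≠ 0) (hfix' : ∀ y ∈ R.U, ρ' y v' = v') (hw' : IsWt R.h ρ' μ v') :
    ∃ e : V ≃ₗ[F] V', (∀ g x, e (ρ g x) = ρ' g (e x)) ∧ e v = v' := by
  classical
  -- a common coefficient
  obtain ⟨l, l', hll, hl0⟩ : ∃ (l : Module.Dual F V) (l' : Module.Dual F V'),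
      coef ρ v l = coef ρ' v' l' ∧ coef ρ v l ≠ 0 := by
    obtain ⟨l, hne, hl, hcase⟩ := exists_left R ρ hs hv hfix hw hμ
    obtain ⟨l', hne', hl', hcase'⟩ := exists_left R ρ' hs' hv' hfix' hw' hμ
    rcases hcase with ⟨ha, hb⟩ | ⟨ha, hb⟩
    · rcases hcase' with ⟨ha', hb'⟩ | ⟨ha', hb'⟩
      · refine ⟨(coef ρ' v' l' R.w) • l, (coef ρ v l R.w) • l', ?_, fun h => hne ?_⟩
        · refine eq_of_cells R (coef_cov R ρ hfix hw _) (coef_cov R ρ' hfix' hw' _) ?_ ?_ ?_ ?_
          · intro y hy g; simp only [coef, LinearMap.smul_apply]; exact congrArg _ (hl y hy g)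
          · intro y hy g; simp only [coef, LinearMap.smul_apply]; exact congrArg _ (hl' y hy g)
          · show coef ρ' v' l' R.w * coef ρ v l 1 = coef ρ v l R.w * coef ρ' v' l' 1
            rw [ha, ha', mul_zero, mul_zero]
          · show coef ρ' v' l' R.w * coef ρ v l R.w = coef ρ v l R.w * coef ρ' v' l' R.w
            ring
        · funext g
          have := congrFun h g
          change coef ρ' v' l' R.w * coef ρ v l g = 0 at this
          exact (mul_eq_zero.1 this).resolve_left hb'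
      · obtain ⟨l₂, hl₂⟩ := coef_surj R ρ' hfix' hw' hl' ha' hb' (coef_cov R ρ hfix hw l)
        exact ⟨l, l₂, hl₂.symm, hne⟩
    · obtain ⟨l₂, hl₂⟩ := coef_surj R ρ hfix hw hl ha hb (coef_cov R ρ' hfix' hw' l')
      exact ⟨l₂, l', hl₂, hl₂ ▸ hne'⟩
  have hl'0 : coef ρ' v' l' ≠ 0 := hll ▸ hl0
  let τ : G →* Module.End F (V × V') :=
    { toFun := fun g => (ρ g).prodMap (ρ' g)
      map_one' := by ext x <;> simp
      map_mul' := fun g g' => by ext x <;> simp }
  let M := Submodule.span F (Set.range fun g => (ρ g v, ρ' g v'))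
  have hτ : ∀ g, ∀ p ∈ M, (ρ g p.1, ρ' g p.2) ∈ M := by
    intro g p hp
    have hle : M.map (τ g) ≤ M := by
      rw [Submodule.map_span_le]
      rintro _ ⟨g', rfl⟩
      exact Submodule.subset_span ⟨g * g', Prod.ext (apply_mul ρ g g' v) (apply_mul ρ' g g' v')⟩
    exact hle ⟨p, hp, rfl⟩
  have hvan : ∀ p ∈ M, l p.1 = l' p.2 := by
    intro p hp
    induction hp using Submodule.span_induction with
    | mem x hx => obtain ⟨g, rfl⟩ := hx; exact congrFun hll g
    | zero => simp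
    | add x y _ _ hx hy => simp [hx, hy]
    | smul c x _ hx => simp [hx]
  have hleft : ∀ x, (x, (0 : V')) ∈ M → x = 0 := by
    intro x hx
    rcases hs.2 (M.comap (LinearMap.inl F V V')) (fun g y hy => by
      have := hτ g _ hy
      simpa using this) with h | h
    · have : x ∈ M.comap (LinearMap.inl F V V') := hx
      rwa [h, Submodule.mem_bot] at this
    · refine absurd (funext fun g => ?_) hl0
      have hm : ρ g v ∈ M.comap (LinearMap.inl F V V') := h ▸ trivial
      simpa [coef] using hvan _ hm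
  have hright : ∀ x, ((0 : V), x) ∈ M → x = 0 := by
    intro x hx
    rcases hs'.2 (M.comap (LinearMap.inr F V V')) (fun g y hy => by
      have := hτ g _ hy
      simpa using this) with h | h
    · have : x ∈ M.comap (LinearMap.inr F V V') := hx
      rwa [h, Submodule.mem_bot] at this
    · refine absurd (funext fun g => ?_) hl'0
      have hm : ρ' g v' ∈ M.comap (LinearMap.inr F V V') := h ▸ trivial
      simpa [coef] using (hvan _ hm).symm
  have hfst : Function.Bijective ((LinearMap.fst F V V').domRestrict M) := by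
    constructor
    · rintro ⟨a, ha⟩ ⟨b, hb⟩ (hab : a.1 = b.1)
      refine Subtype.ext (Prod.ext hab (sub_eq_zero.1 (hright _ ?_)))
      have hm := sub_mem ha hb
      rwa [show a - b = ((0 : V), a.2 - b.2) from Prod.ext (sub_eq_zero.2 hab) rfl] at hm
    · intro x
      have htop : (⊤ : Submodule F V) ≤ M.map (LinearMap.fst F V V') := by
        rw [← span_orbit ρ hs hv, Submodule.span_le]
        rintro _ ⟨g, rfl⟩
        exact ⟨_, Submodule.subset_span ⟨g, rfl⟩, rfl⟩
      obtain ⟨p, hp, hpx⟩ := htop (Submodule.mem_top (x := x))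
      exact ⟨⟨p, hp⟩, hpx⟩
  have hsnd : Function.Bijective ((LinearMap.snd F V V').domRestrict M) := by
    constructor
    · rintro ⟨a, ha⟩ ⟨b, hb⟩ (hab : a.2 = b.2)
      refine Subtype.ext (Prod.ext (sub_eq_zero.1 (hleft _ ?_)) hab)
      have hm := sub_mem ha hb
      rwa [show a - b = (a.1 - b.1, (0 : V')) from Prod.ext rfl (sub_eq_zero.2 hab)] at hm
    · intro x
      have htop : (⊤ : Submodule F V') ≤ M.map (LinearMap.snd F V V') := by
        rw [← span_orbit ρ' hs' hv', Submodule.span_le]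
        rintro _ ⟨g, rfl⟩
        exact ⟨_, Submodule.subset_span ⟨g, rfl⟩, rfl⟩
      obtain ⟨p, hp, hpx⟩ := htop (Submodule.mem_top (x := x))
      exact ⟨⟨p, hp⟩, hpx⟩
  let e := (LinearEquiv.ofBijective _ hfst).symm.trans (LinearEquiv.ofBijective _ hsnd)
  have key : ∀ p : M, e p.1.1 = p.1.2 := fun p => by
    show ((LinearMap.snd F V V').domRestrict M) ((LinearEquiv.ofBijective _ hfst).symm p.1.1) = _
    rw [show (LinearEquiv.ofBijective _ hfst).symm p.1.1 = p from (LinearEquiv.ofBijective _ hfst).symm_apply_apply p]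
    rfl
  refine ⟨e, fun g x => ?_, ?_⟩
  · obtain ⟨p, rfl⟩ := hfst.2 x
    have h1 := key ⟨_, hτ g _ p.2⟩
    have h2 := key p
    exact h1.trans (congrArg (ρ' g) h2.symm)
  · have := key ⟨(ρ 1 v, ρ' 1 v'), Submodule.subset_span ⟨1, rfl⟩⟩
    simpa [apply_one] using this

end Cfsg.Agent.Lie.FPFTop
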