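import Cfsg.Agent.Lib.Lie.FPFTop.Socle

/-!
# Twisted tensor products of a natural module and fixed-point-free simple modules
-/

set_option autoImplicit false
set_option linter.unusedSectionVars false

namespace Cfsg.Agent.Lie.FPFTop

universe u v

variable {F : Type*} [Field F] [Fintype F] [DecidableEq F] [CharP F 2] {G : Type u} [Group G]
variable {ι : Type*} [Fintype ι] [DecidableEq ι]

/-- The index type of the full tensor product. -/
abbrev Full (n : ℕ) : Type := ↥(Finset.univ : Finset (Fin n))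

theorem frob_sum {α : Type*} (s : Finset α) (f : α → F) (i : ℕ) :
    (∑ a ∈ s, f a) ^ 2 ^ i = ∑ a ∈ s, f a ^ 2 ^ i := by
  haveI : ExpChar F 2 := ExpChar.prime Nat.prime_two
  exact sum_pow_char_pow 2 i s f

/-- The tensor product of Frobenius twists. -/
def tens {n : ℕ} (M : G →* Matrix ι ι F) (I : Finset (Fin n)) : G →* Module.End F ((I → ι) → F) where
  toFun g := Matrix.toLin' (Matrix.of fun a b : I → ι => ∏ i, M g (a i) (b i) ^ 2 ^ (i : Fin n).1)
  map_one' := by
    rw [show (Matrix.of fun a b : I → ι => ∏ i, M 1 (a i) (b i) ^ 2 ^ (i : Fin n).1) = 1 from ?_]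
    · exact Matrix.toLin'_one
    ext a b
    rw [map_one, Matrix.of_apply]
    by_cases h : a = b
    · subst h; simp
    · obtain ⟨i, hi⟩ := Function.ne_iff.1 h
      rw [Matrix.one_apply_ne h]
      exact Finset.prod_eq_zero (Finset.mem_univ i) (by rw [Matrix.one_apply_ne hi, zero_pow (by positivity)])
  map_mul' g h := by
    rw [show (Matrix.of fun a b : I → ι => ∏ i, M (g * h) (a i) (b i) ^ 2 ^ (i : Fin n).1) =
      (Matrix.of fun a b : I → ι => ∏ i, M g (a i) (b i) ^ 2 ^ (i : Fin n).1) *
        Matrix.of (fun a b : I → ι => ∏ i, M h (a i) (b i) ^ 2 ^ (i : Fin n).1) from ?_]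
    · exact Matrix.toLin'_mul _ _
    ext a b
    simp only [map_mul, Matrix.mul_apply, Matrix.of_apply, frob_sum, mul_pow, ← Finset.prod_mul_distrib]
    rw [Finset.prod_univ_sum, Fintype.piFinset_univ]

theorem tens_apply {n : ℕ} (M : G →* Matrix ι ι F) (I : Finset (Fin n)) (g : G) (x : (I → ι) → F) (a : I → ι) :
    tens M I g x a = ∑ b, (∏ i, M g (a i) (b i) ^ 2 ^ (i : Fin n).1) * x b := by
  simp [tens, Matrix.mulVec, dotProduct]

/-- Twisted pure tensors. -/
def pure' {n : ℕ} (I : Finset (Fin n)) (v : ι → F) : (I → ι) → F := fun a => ∏ i, v (a i) ^ 2 ^ (i : Fin n).1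

theorem tens_pure {n : ℕ} (M : G →* Matrix ι ι F) (I : Finset (Fin n)) (g : G) (v : ι → F) :
    tens M I g (pure' I v) = pure' I (M g |>.mulVec v) := by
  funext a
  simp only [tens_apply, pure', Matrix.mulVec, dotProduct, frob_sum, mul_pow, ← Finset.prod_mul_distrib]
  rw [Finset.prod_univ_sum, Fintype.piFinset_univ]

theorem pure_single {n : ℕ} (I : Finset (Fin n)) (c : ι) :
    pure' (F := F) I (Pi.single c 1) = Pi.single (fun _ => c) 1 := by
  funext a
  by_cases h : a = fun _ => c
  · subst h; simp [pure']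
  · obtain ⟨i, hi⟩ := Function.ne_iff.1 h
    rw [Pi.single_eq_of_ne h, pure']
    exact Finset.prod_eq_zero (Finset.mem_univ i) (by rw [Pi.single_eq_of_ne hi, zero_pow (by positivity)])

/-- A natural module of a rank-one structure. -/
structure Natural (R : RankOne F G) (ι : Type*) [Fintype ι] [DecidableEq ι] (n : ℕ) where
  M : G →* Matrix ι ι F
  hi : ι
  lo : ι
  wt : ℕ
  hne : hi ≠ lo
  card : Fintype.card F = 2 ^ n
  cardU : Nat.card R.U = Fintype.card ι ^ n
  cop : wt.Coprime (2 ^ n - 1)
  colU : ∀ y ∈ R.U, ∀ a, M y a hi = if a = hi then 1 else 0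
  rowU : ∀ y ∈ R.U, M y lo lo = 1
  colw : ∀ a, M R.w a hi = if a = lo then 1 else 0
  colh : ∀ x : Fˣ, ∀ a, M (R.h x) a hi = if a = hi then (x : F) ^ wt else 0
  span : ∀ f : R.U → F, ∃ c : (Fin n → ι) → F, ∀ y : R.U, f y = ∑ a, c a * ∏ i, M y (a i) lo ^ 2 ^ (i : ℕ)
  witness : ∃ (g : G) (N : ℕ) (v φ₀ φ₁ : ι → F), Odd N ∧ g ^ N = 1 ∧ g ≠ 1 ∧
    (∀ j < N, dotProduct φ₀ ((M (g ^ j)).mulVec v) = 0 ∨ dotProduct φ₀ ((M (g ^ j)).mulVec v) = 1) ∧
    (∀ j < N, dotProduct φ₁ ((M (g ^ j)).mulVec v) = 0 ∨ dotProduct φ₁ ((M (g ^ j)).mulVec v) = 1) ∧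
    ∑ j ∈ Finset.range N, dotProduct φ₀ ((M (g ^ j)).mulVec v) * dotProduct φ₁ ((M (g ^ j)).mulVec v) = 1

variable {R : RankOne F G} {n : ℕ} (A : Natural R ι n)

/-- The highest vector. -/
def Natural.top (I : Finset (Fin n)) : (I → ι) → F := Pi.single (fun _ => A.hi) 1

theorem Natural.top_fix (I : Finset (Fin n)) {y : G} (hy : y ∈ R.U) : tens A.M I y (A.top I) = A.top I := by
  rw [Natural.top, ← pure_single, tens_pure]
  congr 1
  funext a
  rw [Matrix.mulVec_single_one, Matrix.col_apply, A.colU y hy, Pi.single_apply]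

theorem Natural.top_wt (I : Finset (Fin n)) :
    IsWt R.h (tens A.M I) (A.wt * ∑ i ∈ I, 2 ^ (i : ℕ)) (A.top I) := by
  intro x
  rw [Natural.top, ← pure_single, tens_pure]
  funext a
  simp only [pure', Pi.smul_apply, smul_eq_mul, Matrix.mulVec_single_one, Matrix.col_apply, A.colh, Pi.single_apply]
  rw [pow_mul, ← Finset.prod_pow_eq_pow_sum, ← Finset.prod_coe_sort I, ← Finset.prod_mul_distrib]
  refine Finset.prod_congr rfl fun i _ => ?_
  split_ifs
  · rw [one_pow, mul_one]
  · rw [zero_pow (by positivity), mul_zero]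

theorem Natural.top_ne (I : Finset (Fin n)) : A.top I ≠ 0 := fun h => one_ne_zero (α := F) (by
  simpa [Natural.top] using congrFun h fun _ => A.hi)

theorem Natural.w_top (I : Finset (Fin n)) : tens A.M I R.w (A.top I) = Pi.single (fun _ => A.lo) 1 := by
  rw [Natural.top, ← pure_single, tens_pure, ← pure_single]
  congr 1
  funext a
  rw [Matrix.mulVec_single_one, Matrix.col_apply, A.colw, Pi.single_apply]

/-- The translates of the lowest vector of the full tensor product form a basis. -/
theorem Natural.full_basis [Finite G] :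
    LinearIndependent F (fun y : R.U => tens A.M (Finset.univ : Finset (Fin n)) y (Pi.single (fun _ => A.lo) 1)) ∧
    Submodule.span F (Set.range fun y : R.U => tens A.M (Finset.univ : Finset (Fin n)) y (Pi.single (fun _ => A.lo) 1)) = ⊤ := by
  classical
  haveI : Fintype R.U := Fintype.ofFinite _
  have hcardeq : Fintype.card R.U =
      Module.finrank F ((Full n → ι) → F) := by
    rw [Module.finrank_fintype_fun_eq_card, Fintype.card_fun, Fintype.card_coe, Finset.card_univ, Fintype.card_fin,
      ← A.cardU, Nat.card_eq_fintype_card]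
  have hli : LinearIndependent F
      (fun y : R.U => tens A.M (Finset.univ : Finset (Fin n)) y (Pi.single (fun _ => A.lo) 1)) := by
    rw [Fintype.linearIndependent_iff]
    intro g hg y₀
    obtain ⟨c, hc⟩ := A.span (Pi.single y₀ 1)
    have : ∑ y : R.U, g y * (Pi.single y₀ 1 : R.U → F) y = 0 := by
      simp only [hc, Finset.mul_sum]
      rw [Finset.sum_comm]
      refine Finset.sum_eq_zero fun a _ => ?_
      have ha := congrFun hg fun i => a i.1
      rw [Finset.sum_apply] at ha
      simp only [Pi.smul_apply, smul_eq_mul, ← pure_single, tens_pure, pure', Matrix.mulVec_single_one,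
        Matrix.col_apply, Pi.zero_apply] at ha
      rw [← mul_zero (c a), ← ha, Finset.mul_sum]
      refine Finset.sum_congr rfl fun y _ => ?_
      have hp : ∏ i : Full n, A.M (y : G) (a i.1) A.lo ^ 2 ^ (i : Fin n).1 =
          ∏ i : Fin n, A.M (y : G) (a i) A.lo ^ 2 ^ (i : ℕ) := by
        rw [Finset.prod_coe_sort Finset.univ (fun i : Fin n => A.M (y : G) (a i) A.lo ^ 2 ^ (i : ℕ))]
      rw [hp]
      ring
    simpa [Pi.single_apply] using this
  refine ⟨hli, ?_⟩
  haveI : Nonempty R.U := ⟨1⟩
  exact hli.span_eq_top_of_card_eq_finrank hcardeq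

/-- Extension of a tensor by highest vectors. -/
def ext' (I : Finset (Fin n)) (c : ι) (x : (I → ι) → F) : (Full n → ι) → F :=
  fun a => (if ∀ i, i.1 ∉ I → a i = c then 1 else 0) * x fun i => a ⟨i.1, Finset.mem_univ _⟩

theorem Natural.ext_fix (I : Finset (Fin n)) {x : (I → ι) → F} {y : G} (hy : y ∈ R.U)
    (hx : tens A.M I y x = x) :
    tens A.M (Finset.univ : Finset (Fin n)) y (ext' I A.hi x) = ext' I A.hi x := by
  classical
  funext a
  rw [tens_apply]
  set ba : (I → ι) → (Full n → ι) := fun b i => if h : i.1 ∈ I then b ⟨i.1, h⟩ else A.hi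
  have hba : Function.Injective ba := fun b b' h => funext fun i => by
    have := congrFun h ⟨i.1, Finset.mem_univ _⟩
    simpa [ba, i.2] using this
  rw [← Finset.sum_subset (Finset.subset_univ (Finset.univ.image ba)) (fun b _ hb => ?_),
    Finset.sum_image fun _ _ _ _ h => hba h]
  · have key : ∀ b : I → ι, (∏ i, A.M y (a i) (ba b i) ^ 2 ^ (i : Fin n).1) * ext' I A.hi x (ba b) =
        (if ∀ i : Full n, i.1 ∉ I → a i = A.hi then 1 else 0) *
          ((∏ i : I, A.M y (a ⟨i.1, Finset.mem_univ _⟩) (b i) ^ 2 ^ (i : Fin n).1) * x b) := by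
      intro b
      have e : ext' I A.hi x (ba b) = x b := by
        rw [ext', if_pos (fun i hi => by simp [ba, hi]), one_mul]
        congr 1
        funext i
        simp [ba, i.2]
      rw [e, ← mul_assoc]
      congr 1
      by_cases hall : ∀ i : Full n, i.1 ∉ I → a i = A.hi
      · rw [if_pos hall, one_mul]
        rw [← Finset.prod_filter_mul_prod_filter_not (Finset.univ : Finset (Full n)) (fun i => i.1 ∈ I)]
        rw [Finset.prod_eq_one (s := Finset.univ.filter fun i : Full n => ¬ i.1 ∈ I), mul_one]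
        · refine Finset.prod_bij' (fun i hi => ⟨i.1, (Finset.mem_filter.1 hi).2⟩)
            (fun i _ => ⟨i.1, Finset.mem_univ _⟩) (fun _ _ => Finset.mem_univ _)
            (fun i _ => by simp) (fun _ _ => rfl) (fun _ _ => rfl) ?_
          intro i hi
          simp [ba, (Finset.mem_filter.1 hi).2]
        · intro i hi
          have hi' := (Finset.mem_filter.1 hi).2
          rw [hall i hi']
          simp [ba, hi', A.colU y hy]
      · rw [if_neg hall, zero_mul]
        push Not at hall
        obtain ⟨i, hi, hai⟩ := hall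
        exact Finset.prod_eq_zero (Finset.mem_univ i) (by simp [ba, hi, A.colU y hy, hai])
    rw [Finset.sum_congr rfl fun b _ => key b, ← Finset.mul_sum, ext']
    congr 1
    have := congrFun hx fun i : I => a ⟨i.1, Finset.mem_univ _⟩
    rwa [tens_apply] at this
  · refine mul_eq_zero_of_right _ ?_
    rw [ext', if_neg, zero_mul]
    intro hall
    refine hb (Finset.mem_image.2 ⟨fun i => b ⟨i.1, Finset.mem_univ _⟩, Finset.mem_univ _, funext fun i => ?_⟩)
    by_cases h : i.1 ∈ I
    · simp [ba, h]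
    · simp [ba, h, hall i h]

/-- The vectors fixed by the unipotent subgroup are multiples of the highest vector. -/
theorem Natural.fixed_top [Finite G] (I : Finset (Fin n)) {x : (I → ι) → F}
    (hx : ∀ y ∈ R.U, tens A.M I y x = x) : ∃ c : F, x = c • A.top I := by
  classical
  haveI : Fintype R.U := Fintype.ofFinite _
  obtain ⟨hli, hspan⟩ := A.full_basis
  set e : R.U → ((Full n → ι) → F) :=
    fun y => tens A.M Finset.univ y (Pi.single (fun _ => A.lo) 1)
  have hconst : ∀ z : ((Full n → ι) → F), (∀ y ∈ R.U, tens A.M Finset.univ y z = z) →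
      ∃ d : F, z = d • ∑ y, e y := by
    intro z hz
    obtain ⟨g, hg⟩ := (Submodule.mem_span_range_iff_exists_fun F).1 (hspan.ge (Submodule.mem_top (x := z)))
    refine ⟨g 1, ?_⟩
    have hinv : ∀ y : R.U, g y = g 1 := by
      intro y
      have h1 : ∑ u : R.U, g (y⁻¹ * u) • e u = z := by
        conv_rhs => rw [← hz y y.2, ← hg, map_sum]
        simp only [map_smul]
        refine (Fintype.sum_equiv (Equiv.mulLeft y) _ _ fun u => ?_).symm
        simp only [Equiv.coe_mulLeft, inv_mul_cancel_left, e, Subgroup.coe_mul, apply_mul]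
      have h2 : ∑ u : R.U, (g (y⁻¹ * u) - g u) • e u = 0 := by
        simp only [sub_smul, Finset.sum_sub_distrib]
        rw [h1, hg, sub_self]
      have := (Fintype.linearIndependent_iff.1 hli) _ h2 y
      rw [inv_mul_cancel, sub_eq_zero] at this
      exact this.symm
    rw [Finset.smul_sum, ← hg]
    exact Finset.sum_congr rfl fun u _ => by rw [hinv u]
  obtain ⟨d, hd⟩ := hconst _ fun y hy => A.ext_fix I hy (hx y hy)
  obtain ⟨d₁, hd₁⟩ := hconst _ fun y hy => A.ext_fix I hy (A.top_fix I hy)
  have hd₁0 : d₁ ≠ 0 := by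
    rintro rfl
    rw [zero_smul] at hd₁
    have := congrFun hd₁ fun _ => A.hi
    simp [ext', Natural.top] at this
  refine ⟨d / d₁, funext fun a => ?_⟩
  have key := congrFun hd fun i => if h : i.1 ∈ I then a ⟨i.1, h⟩ else A.hi
  have key₁ := congrFun hd₁ fun i => if h : i.1 ∈ I then a ⟨i.1, h⟩ else A.hi
  simp only [ext', Pi.smul_apply, smul_eq_mul] at key key₁
  rw [if_pos (fun i hi => by simp [hi]), one_mul] at key key₁
  have ea : (fun i : I => if h : (i : Fin n) ∈ I then a ⟨i.1, h⟩ else A.hi) = a := funext fun i => by simp [i.2]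
  rw [ea] at key key₁
  rw [Pi.smul_apply, smul_eq_mul, key, key₁, ← mul_assoc, div_mul_cancel₀ _ hd₁0]

/-- The tensor products are simple. -/
theorem Natural.simple [Finite G] (I : Finset (Fin n)) : Simple (tens A.M I) := by
  classical
  haveI hnt : Nontrivial ((I → ι) → F) := ⟨⟨A.top I, 0, A.top_ne I⟩⟩
  refine ⟨hnt, fun W hW => or_iff_not_imp_left.2 fun hW0 => ?_⟩
  haveI : Nontrivial W := Submodule.nontrivial_iff_ne_bot.2 hW0
  obtain ⟨⟨x, hxW⟩, hx0, hxfix⟩ := exists_fixed (res (tens A.M I) W hW) R.U R.two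
  have hfx : ∀ y ∈ R.U, tens A.M I y x = x := fun y hy => congrArg Subtype.val (hxfix y hy)
  obtain ⟨c, hc⟩ := A.fixed_top I hfx
  have htop : A.top I ∈ W := by
    have hc0 : c ≠ 0 := fun h => hx0 (Subtype.ext (show x = 0 by rw [hc, h, zero_smul]))
    have := W.smul_mem c⁻¹ hxW
    rwa [hc, smul_smul, inv_mul_cancel₀ hc0, one_smul] at this
  have hlow : Pi.single (fun _ => A.lo) 1 ∈ W := A.w_top I ▸ hW R.w _ htop
  rw [eq_top_iff]
  intro z _
  by_contra hz
  obtain ⟨f, hfz, hfW⟩ := Submodule.exists_dual_map_eq_bot_of_notMem hz inferInstance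
  -- extend the functional by a coordinate
  obtain ⟨-, hspan⟩ := A.full_basis
  let π : ((Full n → ι) → F) →ₗ[F] ((I → ι) → F) :=
    { toFun := fun p b => p fun i => if h : i.1 ∈ I then b ⟨i.1, h⟩ else A.lo
      map_add' := fun _ _ => rfl
      map_smul' := fun _ _ => rfl }
  have h0 : f.comp π = 0 := by
    refine LinearMap.ext_on_range hspan fun y => ?_
    have e : π (tens A.M Finset.univ y (Pi.single (fun _ => A.lo) 1)) =
        tens A.M I y (Pi.single (fun _ => A.lo) 1) := by
      funext b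
      simp only [π, LinearMap.coe_mk, AddHom.coe_mk, ← pure_single, tens_pure, pure', Matrix.mulVec_single_one,
        Matrix.col_apply]
      rw [← Finset.prod_filter_mul_prod_filter_not (Finset.univ : Finset (Full n)) (fun i => i.1 ∈ I)]
      rw [Finset.prod_eq_one (s := Finset.univ.filter fun i : Full n => ¬ i.1 ∈ I), mul_one]
      · refine Finset.prod_bij' (fun i hi => ⟨i.1, (Finset.mem_filter.1 hi).2⟩)
          (fun i _ => ⟨i.1, Finset.mem_univ _⟩) (fun _ _ => Finset.mem_univ _)
          (fun i _ => by simp) (fun _ _ => rfl) (fun _ _ => rfl) ?_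
        intro i hi
        simp [(Finset.mem_filter.1 hi).2]
      · intro i hi
        simp [(Finset.mem_filter.1 hi).2, A.rowU (y : G) y.2]
    show f (π _) = _
    rw [e]
    have hmem := Submodule.mem_map_of_mem (f := f) (hW (y : G) _ hlow)
    rw [hfW, Submodule.mem_bot] at hmem
    exact hmem
  have := congrArg (fun φ : Module.Dual F _ => φ fun a => z fun i : I => a ⟨i.1, Finset.mem_univ _⟩) h0
  simp only [LinearMap.comp_apply, π, LinearMap.coe_mk, AddHom.coe_mk, LinearMap.zero_apply] at this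
  apply hfz
  convert this using 2
  funext b
  congr 1
  funext i
  simp [i.2]

/-- With two distinct twists some odd order element fixes a vector. -/
theorem Natural.not_fpf (I : Finset (Fin n)) (hI : 1 < I.card) : ¬ FPF (tens A.M I) := by
  classical
  obtain ⟨g, N, v, φ₀, φ₁, hN, hgN, hg1, h0, h1, hsum⟩ := A.witness
  obtain ⟨i₀, hi₀, i₁, hi₁, hne⟩ := Finset.one_lt_card.1 hI
  intro hfpf
  set z : (I → ι) → F := ∑ j ∈ Finset.range N, tens A.M I (g ^ j) (pure' I v)
  have hfix : tens A.M I g z = z := by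
    simp only [z, map_sum, ← apply_mul, ← pow_succ']
    have h' := (Finset.sum_range_succ' (fun j => tens A.M I (g ^ j) (pure' I v)) N).symm.trans
      (Finset.sum_range_succ (fun j => tens A.M I (g ^ j) (pure' I v)) N)
    rw [hgN, pow_zero] at h'
    exact add_right_cancel h'
  have hodd : Odd (orderOf g) := hN.of_dvd_nat (orderOf_dvd_of_pow_eq_one hgN)
  have hz := hfpf g hodd hg1 z hfix
  have key : ∀ x : ι → F, ∑ a : I → ι, (∏ i : I, (if i.1 = i₁ then φ₁ (a i) else φ₀ (a i)) ^ 2 ^ (i : Fin n).1) *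
      pure' I x a = ∏ i : I, (if i.1 = i₁ then dotProduct φ₁ x else dotProduct φ₀ x) ^ 2 ^ (i : Fin n).1 := by
    intro x
    simp only [pure', ← Finset.prod_mul_distrib, ← mul_pow]
    rw [← Fintype.piFinset_univ, ← Finset.prod_univ_sum (fun _ => Finset.univ)
      (fun (i : I) c => ((if i.1 = i₁ then φ₁ c else φ₀ c) * x c) ^ 2 ^ (i : Fin n).1)]
    refine Finset.prod_congr rfl fun i _ => ?_
    rw [← frob_sum]
    split_ifs <;> rfl
  have h : ∑ a : I → ι, (∏ i : I, (if i.1 = i₁ then φ₁ (a i) else φ₀ (a i)) ^ 2 ^ (i : Fin n).1) * z a = 1 := by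
    simp only [z, Finset.sum_apply, Finset.mul_sum]
    rw [Finset.sum_comm, ← hsum]
    refine Finset.sum_congr rfl fun j hj => ?_
    rw [tens_pure, key]
    rcases h0 j (Finset.mem_range.1 hj) with e0 | e0
    · rw [e0, zero_mul]
      exact Finset.prod_eq_zero (Finset.mem_univ (⟨i₀, hi₀⟩ : I)) (by rw [if_neg hne]; exact zero_pow (by positivity))
    · rcases h1 j (Finset.mem_range.1 hj) with e1 | e1
      · rw [e1, mul_zero]
        exact Finset.prod_eq_zero (Finset.mem_univ (⟨i₁, hi₁⟩ : I)) (by rw [if_pos rfl]; exact zero_pow (by positivity))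
      · rw [e0, e1, mul_one]
        exact Finset.prod_eq_one fun i _ => by simp
  rw [hz] at h
  simp at h

end Cfsg.Agent.Lie.FPFTop
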