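import Cfsg.Agent.Lib.Lie.FPFTop.Core
import Cfsg.Agent.Lib.Lie.FPFTop.FrameSuzuki
import Cfsg.Agent.Lib.Lie.SuzukiSp4
import Cfsg.Agent.Lib.Solv.CIT.Top
import Cfsg.Agent.Lib.Solv.CIT.Main

/-!
# The two-core of a nonsolvable group with two-group involution centralisers is elementary abelian
-/

set_option autoImplicit false
set_option linter.unusedSectionVars false
set_option linter.style.haveILetI false

namespace Cfsg.Agent.Lie.FPFTop

universe u v

theorem charTwo_of_card {F : Type*} [Field F] [Fintype F] {n : ℕ} (hF : Fintype.card F = 2 ^ n) : CharP F 2 := by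
  refine (CharP.charP_iff_prime_eq_zero Nat.prime_two).2 ?_
  have h := Nat.cast_card_eq_zero F
  rw [hF, Nat.cast_pow] at h
  exact eq_zero_of_pow_eq_zero h

/-- The elementary core below an explicit top. -/
theorem core_of_frame {H : Type v} [Group H] [Finite H] (hC : Solv.CITGroups.CIT H) {D : Subgroup H} [D.Normal]
    (hD : IsPGroup 2 D) {F : Type*} [Field F] [Fintype F] [DecidableEq F] [CharP F 2] {Y : Type u} [Group Y] [Finite Y]
    {R : RankOne F Y} {ι : Type*} [Fintype ι] [DecidableEq ι] {n : ℕ} (A : Frame R ι n) (e : H ⧸ D ≃* Y) :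
    IsMulCommutative D ∧ ∀ d ∈ D, d * d = 1 := by
  obtain ⟨h1, h2⟩ := A.elementary_core (Nat.card H) H rfl D (e.toMonoidHom.comp (QuotientGroup.mk' D))
    (e.surjective.comp (QuotientGroup.mk'_surjective D)) (by
      ext x
      simp [MonoidHom.mem_ker]) hD
    fun y hy hy1 d hd hc => hC.fpf_mem hy hy1 hD hd hc
  exact ⟨⟨⟨fun a b => Subtype.ext (h1 a a.2 b b.2)⟩⟩, h2⟩

/-- The structure of a nonsolvable group with two-group involution centralisers and nontrivial two-core. -/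
theorem core_structure {H : Type v} [Group H] [Finite H] (hC : Solv.CITGroups.CIT H) (hns : ¬ Group.IsSolvable H)
    (hcore : Cfsg.pCore 2 H ≠ ⊥) [(Cfsg.pCore 2 H).Normal] :
    IsMulCommutative (Cfsg.pCore 2 H) ∧ (∀ d ∈ Cfsg.pCore 2 H, d * d = 1) ∧
      ((∃ (F : Type) (_ : Field F) (_ : Fintype F), CharP F 2 ∧ 4 ≤ Fintype.card F ∧
          Nonempty (H ⧸ Cfsg.pCore 2 H ≃* Matrix.ProjectiveSpecialLinearGroup (Fin 2) F)) ∨
        Cfsg.IsSuzuki (H ⧸ Cfsg.pCore 2 H)) := by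
  classical
  obtain ⟨hs, -, n, T, hT⟩ := hC.top hns hcore (Solv.CITGroups.below_all _)
  haveI := hs
  have hD : IsPGroup 2 (Cfsg.pCore 2 H) := Solv.pCore_isPGroup 2
  have hn := hT.two_le
  rcases hT.ident_iso with ⟨F, hf, hff, hF, ⟨e⟩⟩ | ⟨hcT, hodd, hn1, hiso⟩
  · haveI := charTwo_of_card hF
    have hc := Solv.BReyn.center_eq_bot_two_pow (m := n) (by omega) F hF
    let e' : Matrix.SpecialLinearGroup (Fin 2) F ≃* Matrix.ProjectiveSpecialLinearGroup (Fin 2) F :=
      MulEquiv.ofBijective (QuotientGroup.mk' _)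
        ⟨by rw [← MonoidHom.ker_eq_bot_iff, QuotientGroup.ker_mk', hc], QuotientGroup.mk'_surjective _⟩
    obtain ⟨h1, h2⟩ := core_of_frame hC hD (linearFrame hF hn) (e.trans e'.symm)
    refine ⟨h1, h2, Or.inl ⟨F, hf, hff, inferInstance, ?_, ⟨e⟩⟩⟩
    rw [hF]
    calc 4 = 2 ^ 2 := by norm_num
      _ ≤ 2 ^ n := Nat.pow_le_pow_right two_pos hn
  · obtain ⟨F, _, _, m, hm, hF, ⟨e⟩⟩ := hiso
    haveI := charTwo_of_card hF
    obtain ⟨e'⟩ := Suzuki.lie_sz_equiv hF hm
    haveI : Finite (Cfsg.Sz F m) := inferInstance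
    obtain ⟨h1, h2⟩ := core_of_frame hC hD (suzukiFrame hF hm) (e.trans e'.symm)
    refine ⟨h1, h2, Or.inr ?_⟩
    rcases hT.ident with ⟨F', _, _, hF', ⟨f⟩⟩ | hsz
    · refine Lie.ZassenhausSuzuki.isSuzuki_of_data hodd hn1 ?_
      rw [hT.cardG, hcT]
      ring
    · exact hsz

end Cfsg.Agent.Lie.FPFTop
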