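import Cfsg.Agent.Lib.Lie.FPFTop.Trilinear

/-!
# Reduction to simple modules
-/

set_option autoImplicit false
set_option linter.unusedSectionVars false

namespace Cfsg.Agent.Lie.FPFTop

universe u v

variable {F : Type*} [Field F] {G : Type u} [Group G]

section Sub

variable {V : Type v} [AddCommGroup V] [Module F V] [Finite V] {ρ : G →* Module.End F V}

theorem fpf_res (h : FPF ρ) {W : Submodule F V} (hW : Inv ρ W) : FPF (res ρ W hW) :=
  fun g hg hg1 w hw => Subtype.ext (h g hg hg1 w (congrArg Subtype.val hw))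

theorem fpf_quo (h : FPF ρ) {W : Submodule F V} (hW : Inv ρ W) : FPF (quo ρ W hW) := by
  intro g hg hg1
  have hinj : ∀ v, ρ g v = v → v = 0 := h g hg hg1
  have hV : Function.Injective fun v => ρ g v - v := fun a b e => by
    refine sub_eq_zero.1 (hinj _ ?_)
    rw [map_sub, sub_eq_sub_iff_sub_eq_sub]
    exact e
  have hW' : Function.Injective fun w : W => (⟨ρ g w - w, sub_mem (hW g w w.2) w.2⟩ : W) :=
    fun a b e => Subtype.ext (hV (congrArg Subtype.val e))
  intro x hx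
  obtain ⟨v, rfl⟩ := W.mkQ_surjective x
  have hm : ρ g v - v ∈ W := (Submodule.Quotient.eq W).1 hx
  obtain ⟨w, hw⟩ := Finite.injective_iff_surjective.1 hW' ⟨_, hm⟩
  have hvw : v = w := (hV (congrArg Subtype.val hw)).symm
  exact (Submodule.Quotient.mk_eq_zero W).2 (hvw ▸ w.2)

theorem card_quot_lt {W : Submodule F V} (hW : W ≠ ⊥) : Nat.card (V ⧸ W) < Nat.card V := by
  have h := Submodule.card_eq_card_quotient_mul_card W
  haveI : Nontrivial W := Submodule.nontrivial_iff_ne_bot.2 hW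
  have h1 : 1 < Nat.card W := Finite.one_lt_card
  haveI : Finite (V ⧸ W) := Finite.of_surjective _ W.mkQ_surjective
  have h2 : 0 < Nat.card (V ⧸ W) := Nat.card_pos
  nlinarith

theorem card_sub_lt {W : Submodule F V} (hW : W ≠ ⊤) : Nat.card W < Nat.card V := by
  obtain ⟨v, -, hv⟩ := SetLike.exists_of_lt (lt_top_iff_ne_top.2 hW)
  by_contra hle
  obtain ⟨w, hw⟩ := (Subtype.val_injective.bijective_of_nat_card_le (not_lt.1 hle) :
    Function.Bijective (Subtype.val : W → V)).2 v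
  exact hv (hw ▸ w.2)

theorem exists_quot_lift {V L : Type*} [AddCommGroup V] [Module F V] [AddCommMonoid L] [Module F L]
    (W : Submodule F V) (f : V →ₗ[F] L) (h : ∀ x ∈ W, f x = 0) :
    ∃ g : (V ⧸ W) →ₗ[F] L, ∀ x, g (W.mkQ x) = f x := by
  obtain ⟨t, ht⟩ := LinearMap.exists_rightInverse_of_surjective W.mkQ (Submodule.range_mkQ W)
  refine ⟨f.comp t, fun x => ?_⟩
  have hm : t (W.mkQ x) - x ∈ W := (Submodule.Quotient.eq W).1 (DFunLike.congr_fun ht (W.mkQ x))
  show f (t (W.mkQ x)) = f x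
  conv_lhs => rw [← sub_add_cancel (t (W.mkQ x)) x, map_add, h _ hm, zero_add]

end Sub

variable {X Y Z : Type v} [AddCommGroup X] [Module F X] [AddCommGroup Y] [Module F Y] [AddCommGroup Z] [Module F Z]
  (ρ : G →* Module.End F X) (σ : G →* Module.End F Y) (τ : G →* Module.End F Z)

/-- Splitting the first argument along an invariant submodule. -/
theorem InvTri.zero_of_split [Finite X] (fX : FPF ρ)
    (IH : ∀ (X' : Type v) [AddCommGroup X'] [Module F X'] [Finite X'] (ρ' : G →* Module.End F X'),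
      Nat.card X' < Nat.card X → FPF ρ' → ∀ β' : X' →ₗ[F] Y →ₗ[F] Z →ₗ[F] F, InvTri ρ' σ τ β' → β' = 0)
    (hns : ¬ Simple ρ) {β : X →ₗ[F] Y →ₗ[F] Z →ₗ[F] F} (hβ : InvTri ρ σ τ β) : β = 0 := by
  by_cases hX : Subsingleton X
  · ext x y z
    simp [Subsingleton.elim x 0]
  haveI := not_subsingleton_iff_nontrivial.1 hX
  simp only [Simple, not_and] at hns
  have := hns inferInstance
  push Not at this
  obtain ⟨W, hW, hW0, hW1⟩ := this
  have h1 : β.comp W.subtype = 0 :=
    IH W (res ρ W hW) (card_sub_lt hW1) (fpf_res fX hW) _ fun g x y z => hβ g x y z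
  have hker : ∀ x ∈ W, β x = 0 := fun x hx => DFunLike.congr_fun h1 (⟨x, hx⟩ : W)
  haveI : Finite (X ⧸ W) := Finite.of_surjective _ W.mkQ_surjective
  obtain ⟨γ, hγ⟩ := exists_quot_lift W β hker
  have hinv : InvTri (quo ρ W hW) σ τ γ := fun g x y z => by
    obtain ⟨v, rfl⟩ := W.mkQ_surjective x
    rw [show quo ρ W hW g (W.mkQ v) = W.mkQ (ρ g v) from rfl, hγ, hγ]
    exact hβ g v y z
  have h2 : γ = 0 := IH (X ⧸ W) (quo ρ W hW) (card_quot_lt hW0) (fpf_quo fX hW) γ hinv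
  refine LinearMap.ext fun x => ?_
  rw [← hγ x, h2]
  rfl

variable [Fintype F] [DecidableEq F] [CharP F 2] {ι : Type*} [Fintype ι] [DecidableEq ι] {R : RankOne F G} {n : ℕ}

/-- Invariant trilinear forms on modules without fixed points vanish. -/
theorem Frame.tri_zero (A : Frame R ι n) [Finite G] [Finite X] [Finite Y] [Finite Z]
    (fX : FPF ρ) (fY : FPF σ) (fZ : FPF τ) {β : X →ₗ[F] Y →ₗ[F] Z →ₗ[F] F} (hβ : InvTri ρ σ τ β) : β = 0 := by
  suffices H : ∀ (c : ℕ) (X Y Z : Type v) [AddCommGroup X] [Module F X] [AddCommGroup Y] [Module F Y]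
      [AddCommGroup Z] [Module F Z] [Finite X] [Finite Y] [Finite Z]
      (ρ : G →* Module.End F X) (σ : G →* Module.End F Y) (τ : G →* Module.End F Z),
      Nat.card X + Nat.card Y + Nat.card Z = c → FPF ρ → FPF σ → FPF τ →
      ∀ β : X →ₗ[F] Y →ₗ[F] Z →ₗ[F] F, InvTri ρ σ τ β → β = 0 from
    H _ X Y Z ρ σ τ rfl fX fY fZ β hβ
  intro c
  induction c using Nat.strong_induction_on with
  | _ c ih =>
  intro X Y Z _ _ _ _ _ _ _ _ _ ρ σ τ hc fX fY fZ β hβ
  by_cases sX : Simple ρ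
  swap
  · exact hβ.zero_of_split ρ σ τ fX (fun X' _ _ _ ρ' hlt f' β' h' =>
      ih _ (by omega) X' Y Z ρ' σ τ rfl f' fY fZ β' h') sX
  by_cases sY : Simple σ
  swap
  · have h := (hβ.swap ρ σ τ).zero_of_split σ ρ τ fY (fun Y' _ _ _ σ' hlt f' β' h' =>
      ih _ (by omega) Y' X Z σ' ρ τ rfl f' fX fZ β' h') sY
    ext x y z
    exact DFunLike.congr_fun (DFunLike.congr_fun (DFunLike.congr_fun h y) x) z
  by_cases sZ : Simple τ
  swap
  · have h := InvTri.zero_of_split τ ρ σ fZ (fun Z' _ _ _ τ' hlt f' β' h' =>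
      ih _ (by omega) Z' X Y τ' ρ σ rfl f' fX fY β' h') sZ ((hβ.swap' ρ σ τ).swap ρ τ σ)
    ext x y z
    exact DFunLike.congr_fun (DFunLike.congr_fun (DFunLike.congr_fun h z) x) y
  exact A.tri_simple ρ σ τ sX sY sZ fX fY fZ hβ

end Cfsg.Agent.Lie.FPFTop
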