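import Mathlib

/-!
# Witt vectors of length two over a field of characteristic two
-/

set_option autoImplicit false
set_option linter.unusedSectionVars false

namespace Cfsg.Agent.Lie.FPFTop

/-- Witt vectors of length two. -/
@[ext]
structure WTwo (F : Type*) where
  c0 : F
  c1 : F

namespace WTwo

variable {F : Type*} [Field F] [CharP F 2]

/-- Sum. -/
def addW (a b : WTwo F) : WTwo F := ⟨a.c0 + b.c0, a.c1 + b.c1 + a.c0 * b.c0⟩

/-- Product. -/
def mulW (a b : WTwo F) : WTwo F := ⟨a.c0 * b.c0, a.c0 ^ 2 * b.c1 + a.c1 * b.c0 ^ 2⟩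

/-- Negative. -/
def negW (a : WTwo F) : WTwo F := ⟨a.c0, a.c1 + a.c0 ^ 2⟩

instance : Add (WTwo F) := ⟨addW⟩
instance : Zero (WTwo F) := ⟨⟨0, 0⟩⟩
instance : Neg (WTwo F) := ⟨negW⟩
instance : Mul (WTwo F) := ⟨mulW⟩
instance : One (WTwo F) := ⟨⟨1, 0⟩⟩

instance : CommRing (WTwo F) where
  nsmul := nsmulRec
  zsmul := zsmulRec
  add_assoc a b c := by
    show addW (addW a b) c = addW a (addW b c)
    ext <;> simp only [addW] <;> ring
  zero_add a := by
    show addW ⟨0, 0⟩ a = a
    ext <;> simp [addW]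
  add_zero a := by
    show addW a ⟨0, 0⟩ = a
    ext <;> simp [addW]
  add_comm a b := by
    show addW a b = addW b a
    ext <;> simp only [addW] <;> ring
  neg_add_cancel a := by
    show addW (negW a) a = ⟨0, 0⟩
    ext <;> simp only [addW, negW]
    · exact CharTwo.add_self_eq_zero _
    · linear_combination (a.c1 + a.c0 ^ 2) * CharTwo.two_eq_zero (R := F)
  mul_assoc a b c := by
    show mulW (mulW a b) c = mulW a (mulW b c)
    ext <;> simp only [mulW] <;> ring
  one_mul a := by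
    show mulW ⟨1, 0⟩ a = a
    ext <;> simp [mulW]
  mul_one a := by
    show mulW a ⟨1, 0⟩ = a
    ext <;> simp [mulW]
  zero_mul a := by
    show mulW ⟨0, 0⟩ a = ⟨0, 0⟩
    ext <;> simp [mulW]
  mul_zero a := by
    show mulW a ⟨0, 0⟩ = ⟨0, 0⟩
    ext <;> simp [mulW]
  mul_comm a b := by
    show mulW a b = mulW b a
    ext <;> simp only [mulW] <;> ring
  left_distrib a b c := by
    show mulW a (addW b c) = addW (mulW a b) (mulW a c)
    ext <;> simp only [mulW, addW]
    · ring
    · linear_combination (a.c1 * b.c0 * c.c0) * CharTwo.two_eq_zero (R := F)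
  right_distrib a b c := by
    show mulW (addW a b) c = addW (mulW a c) (mulW b c)
    ext <;> simp only [mulW, addW]
    · ring
    · linear_combination (a.c0 * b.c0 * c.c1) * CharTwo.two_eq_zero (R := F)

theorem mul_c0 (a b : WTwo F) : (a * b).c0 = a.c0 * b.c0 := rfl

theorem mul_c1 (a b : WTwo F) : (a * b).c1 = a.c0 ^ 2 * b.c1 + a.c1 * b.c0 ^ 2 := rfl

theorem one_def : (1 : WTwo F) = ⟨1, 0⟩ := rfl

theorem zero_def : (0 : WTwo F) = ⟨0, 0⟩ := rfl

theorem two_def : (2 : WTwo F) = ⟨0, 1⟩ := by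
  rw [show (2 : WTwo F) = 1 + 1 from one_add_one_eq_two.symm]
  show addW ⟨1, 0⟩ ⟨1, 0⟩ = _
  ext <;> simp [addW, CharTwo.add_self_eq_zero]

/-- Teichmüller representatives. -/
def tau : F →* WTwo F where
  toFun a := ⟨a, 0⟩
  map_one' := rfl
  map_mul' a b := by
    ext
    · rfl
    · simp [mul_c1]

/-- Reduction. -/
def red : WTwo F →+* F where
  toFun := c0
  map_one' := rfl
  map_mul' _ _ := rfl
  map_zero' := rfl
  map_add' _ _ := rfl

theorem red_tau (a : F) : red (tau a) = a := rfl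

theorem two_ne : (2 : WTwo F) ≠ 0 := fun h => one_ne_zero (α := F) (by
  rw [two_def, zero_def] at h
  exact congrArg c1 h)

theorem four : (2 : WTwo F) * 2 = 0 := by
  rw [two_def, zero_def]
  ext <;> simp [mul_c0, mul_c1]

theorem exists_two_mul [Finite F] {r : WTwo F} (h : red r = 0) : ∃ s, r = 2 * s := by
  have hinj : Function.Injective fun x : F => x ^ 2 := fun a b e => CharTwo.sq_inj.1 e
  obtain ⟨b, hb⟩ := Finite.injective_iff_surjective.1 hinj r.c1
  refine ⟨⟨b, 0⟩, ?_⟩
  rw [two_def]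
  ext
  · show r.c0 = 0 * b
    rw [zero_mul]
    exact h
  · simpa [mul_c1] using hb.symm

theorem isUnit_of_red {r : WTwo F} (h : red r ≠ 0) : IsUnit r := by
  refine IsUnit.of_mul_eq_one ⟨r.c0⁻¹, r.c1 * (r.c0⁻¹) ^ 4⟩ ?_
  have h' : r.c0 ≠ 0 := h
  rw [one_def]
  ext
  · simp [mul_c0, h']
  · simp only [mul_c1]
    field_simp
    linear_combination r.c1 * CharTwo.two_eq_zero (R := F)

instance [Finite F] : Finite (WTwo F) :=
  Finite.of_injective (fun r => (r.c0, r.c1)) fun a b h => by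
    ext
    · exact congrArg Prod.fst h
    · exact congrArg Prod.snd h

end WTwo

end Cfsg.Agent.Lie.FPFTop
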